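import Groth.Agent.Lib.P1Bun1.Local

/-!
# A basis of `f_* O(σ)` over a small affine open of the base
-/

set_option autoImplicit false
set_option linter.style.haveILetI false
set_option maxHeartbeats 1600000
set_option backward.isDefEq.respectTransparency false
set_option backward.isDefEq.respectTransparency.types false

universe u

open CategoryTheory CategoryTheory.Limits AlgebraicGeometry TopologicalSpace Opposite

noncomputable section

namespace Groth.Agent.P1Bun1

open Groth.Agent.M1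

variable {C B : Scheme.{u}} {f : C ⟶ B} [IsProper f] [SmoothOfRelativeDimension 1 f] {σ : B ⟶ C}
  (hσ : σ ≫ f = 𝟙 B) {D : DivSec σ.ker}

omit [SmoothOfRelativeDimension 1 f] in
include hσ in
theorem isClosedImmersion_sec : IsClosedImmersion σ := by
  have : IsClosedImmersion (σ ≫ f) := by rw [hσ]; infer_instance
  exact IsClosedImmersion.of_comp σ f

omit [SmoothOfRelativeDimension 1 f] in
include hσ in
theorem mem_cmpl_iff (x : C) : x ∈ EffCartier.cmpl σ.ker ↔ x ∉ Set.range σ := by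
  haveI := isClosedImmersion_sec hσ
  show x ∉ (σ.ker.support : Set C) ↔ _
  rw [Scheme.Hom.support_ker, σ.isClosedEmbedding.isClosed_range.closure_eq]

namespace Chart

variable {V : B.Opens} (K : Chart (f := f) D V)

omit [SmoothOfRelativeDimension 1 f] in
include hσ in
theorem cover (K : Chart (f := f) D V) : f ⁻¹ᵁ V ≤ K.W ⊔ (f ⁻¹ᵁ V ⊓ EffCartier.cmpl σ.ker) := fun x hx => by
  by_cases h : x ∈ Set.range σ
  · obtain ⟨y, rfl⟩ := h
    refine Or.inl (K.pre ?_)
    have : f (σ y) = y := by rw [← Scheme.Hom.comp_apply, hσ]; rfl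
    rw [← this]; exact hx
  · exact Or.inr ⟨hx, (mem_cmpl_iff hσ x).2 h⟩

omit [SmoothOfRelativeDimension 1 f] in
include hσ in
/-- A section of value zero is a multiple of the section of the divisor. -/
theorem exists_local {v : Γ(D.L, f ⁻¹ᵁ V)} (h : K.ev v = 0) : ∃ c : Γ(C, K.W), c * K.φ = K.coef v := by
  haveI := isClosedImmersion_sec hσ
  haveI : IsIso σ.toImage := inferInstance
  have e : σ ⁻¹ᵁ K.W ≤ V := fun y hy => by
    have := K.le hy
    have h2 : f (σ y) = y := by rw [← Scheme.Hom.comp_apply, hσ]; rfl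
    rw [← h2]; exact this
  have h1 : σ.app K.W (K.coef v) = 0 := by
    have h' := congrArg (B.presheaf.map (homOfLE e).op) h
    rw [map_zero] at h'
    refine Eq.trans ?_ h'
    show _ = (σ.app K.W ≫ B.presheaf.map (homOfLE K.pre).op ≫ B.presheaf.map (homOfLE e).op) (K.coef v)
    rw [← Functor.map_comp, ← op_comp, show (homOfLE e ≫ homOfLE K.pre) = 𝟙 _ from rfl, op_id,
      B.presheaf.map_id, Category.comp_id]
  have h2 : σ.ker.subschemeι.app K.W (K.coef v) = 0 := by
    have hh := ConcreteCategory.congr_hom (Scheme.Hom.congr_app σ.toImage_imageι K.W) (K.coef v)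
    rw [Scheme.Hom.comp_app, ConcreteCategory.comp_apply, ConcreteCategory.comp_apply] at hh
    refine (ConcreteCategory.bijective_of_isIso (σ.toImage.app (σ.ker.subschemeι ⁻¹ᵁ K.W))).1 ?_
    rw [map_zero]
    refine hh.trans ?_
    rw [h1, map_zero]
  obtain ⟨z, hz⟩ := M2.exists_idealIncl_eq σ.ker (K.coef v) h2
  obtain ⟨c, hc⟩ := (K.gen_b K.W le_rfl).2 z
  refine ⟨c, ?_⟩
  rw [← hz, ← hc]
  show _ = M2.idealIncl σ.ker (c • mres _ le_rfl K.b)
  rw [mres_id, M2.idealIncl_smul, K.b_eq]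

omit [SmoothOfRelativeDimension 1 f] in
include hσ in
theorem exists_glob {v : Γ(D.L, f ⁻¹ᵁ V)} (h : K.ev v = 0) :
    ∃ c : Γ(C, f ⁻¹ᵁ V), c • mres D.L (le_top : f ⁻¹ᵁ V ≤ ⊤) D.s = v := by
  obtain ⟨cW, hcW⟩ := exists_local hσ K h
  have hoff := (isGen_off (D := D)).mres (inf_le_right : f ⁻¹ᵁ V ⊓ EffCartier.cmpl σ.ker ≤ EffCartier.cmpl σ.ker)
  rw [mres_mres] at hoff
  obtain ⟨cD, hcD⟩ := (hoff _ le_rfl).2 (mres D.L inf_le_left v)
  simp only [mres_id] at hcD
  have hW : cW • mres D.L le_top D.s = mres D.L K.le v := by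
    rw [K.sec, ← mul_smul, hcW, K.coef_spec]
  obtain ⟨c, hc1, hc2⟩ := exists_glue₂ (Coh.structureModule C) K.le
    (inf_le_left : f ⁻¹ᵁ V ⊓ EffCartier.cmpl σ.ker ≤ f ⁻¹ᵁ V) (cover hσ K) cW cD (by
      refine (hoff _ (inf_le_right : K.W ⊓ (f ⁻¹ᵁ V ⊓ EffCartier.cmpl σ.ker) ≤ _)).1 ?_
      show (show Γ(C, _) from ores inf_le_left cW) • mres D.L _ (mres D.L _ D.s) =
        (show Γ(C, _) from ores inf_le_right cD) • mres D.L _ (mres D.L _ D.s)
      have a := congrArg (mres D.L (inf_le_left : K.W ⊓ (f ⁻¹ᵁ V ⊓ EffCartier.cmpl σ.ker) ≤ K.W)) hW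
      have b := congrArg (mres D.L (inf_le_right : K.W ⊓ (f ⁻¹ᵁ V ⊓ EffCartier.cmpl σ.ker) ≤ _)) hcD
      rw [mres_smul, mres_mres, mres_mres] at a b
      rw [mres_mres]
      exact a.trans b.symm)
  let c' : Γ(C, f ⁻¹ᵁ V) := c
  refine ⟨c', modules_eq_of_locally_eq D.L _ (fun i : Bool => bif i then K.W else f ⁻¹ᵁ V ⊓ EffCartier.cmpl σ.ker)
    (fun i => by cases i; exacts [inf_le_left, K.le]) (fun x hx => ?_) _ _ fun i => ?_⟩
  · exact Opens.mem_iSup.2 ((cover hσ K hx).elim (fun h => ⟨true, h⟩) fun h => ⟨false, h⟩)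
  · cases i
    · show mres D.L inf_le_left (c' • _) = mres D.L inf_le_left v
      rw [mres_smul, mres_mres, ← hcD]
      exact congrArg (· • _) hc2
    · show mres D.L K.le (c' • _) = mres D.L K.le v
      rw [mres_smul, mres_mres, ← hW]
      exact congrArg (· • _) hc1

omit [SmoothOfRelativeDimension 1 f] in
include hσ in
theorem smul_sec_eq_zero {c : Γ(C, f ⁻¹ᵁ V)} (h : c • mres D.L (le_top : f ⁻¹ᵁ V ≤ ⊤) D.s = 0) (K : Chart (f := f) D V) :
    c = 0 := by
  refine modules_eq_of_locally_eq (Coh.structureModule C) _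
    (fun i : Bool => bif i then K.W else f ⁻¹ᵁ V ⊓ EffCartier.cmpl σ.ker)
    (fun i => by cases i; exacts [inf_le_left, K.le])
    (fun x hx => Opens.mem_iSup.2 ((cover hσ K hx).elim (fun h => ⟨true, h⟩) fun h => ⟨false, h⟩)) _ _ fun i => ?_
  cases i
  · show ores inf_le_left c = ores inf_le_left (0 : Γ(C, f ⁻¹ᵁ V))
    rw [map_zero]
    refine ((isGen_off (D := D)) _ inf_le_right).1 ?_
    show _ • mres D.L _ (mres D.L _ D.s) = (0 : Γ(C, f ⁻¹ᵁ V ⊓ EffCartier.cmpl σ.ker)) • _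
    rw [zero_smul, mres_mres]
    have a := congrArg (mres D.L (inf_le_left : f ⁻¹ᵁ V ⊓ EffCartier.cmpl σ.ker ≤ f ⁻¹ᵁ V)) h
    rw [mres_smul, mres_mres, map_zero] at a
    exact a
  · show ores K.le c = ores K.le (0 : Γ(C, f ⁻¹ᵁ V))
    rw [map_zero]
    refine Chart.inj_phi K le_rfl ?_
    have a := congrArg (mres D.L K.le) h
    rw [mres_smul, mres_mres, map_zero, K.sec, ← mul_smul] at a
    refine (K.gen K.W le_rfl).1 ?_
    show _ • mres D.L le_rfl K.g = (0 : Γ(C, K.W)) • mres D.L le_rfl K.g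
    rw [M1.ores_id, mres_id, zero_smul]
    exact a

variable (hf : IsP1Fam f) (hV : IsAffineOpen V)

include hσ hf hV in
/-- Some section has value one. -/
theorem exists_ev_one : ∃ v : Γ(D.L, f ⁻¹ᵁ V), K.ev v = 1 := by
  let α : Coh.structureModule C ⟶ D.L := M1.secHom D.s
  have hap : ∀ (U : C.Opens) (w : Γ(Coh.structureModule C, U)), α.app U w =
      (show Γ(C, U) from w) • mres D.L le_top D.s := fun U w => Twist.secHom_app _ U w
  have hinj : ∀ (U : C.Opens) (r : Γ(C, U)), r • mres D.L (le_top : U ≤ ⊤) D.s = 0 → r = 0 := fun U r hr => by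
    choose W φ g hxW hle he hg hs using fun x : U => D.loc x.1 U x.2
    refine modules_eq_of_locally_eq (Coh.structureModule C) U (fun x => (W x).1) hle
      (fun x hx => Opens.mem_iSup.2 ⟨⟨x, hx⟩, hxW _⟩) (show Γ(Coh.structureModule C, U) from r) 0 fun x => ?_
    show ores (hle x) r = ores (hle x) (0 : Γ(C, U))
    rw [map_zero]
    have h3 := congrArg (mres D.L (hle x)) hr
    rw [mres_smul, mres_mres, map_zero, hs x, ← mul_smul] at h3
    have h4 : ores (hle x) r * φ x = 0 := by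
      refine (hg x _ le_rfl).1 ?_
      show _ • mres D.L le_rfl (g x) = (0 : Γ(C, (W x).1)) • mres D.L le_rfl (g x)
      rw [mres_id, zero_smul]
      exact h3
    exact (mem_nonZeroDivisors_iff_right.1 (he x).mem) _ h4
  haveI : Mono α := ⟨fun {Z} u v e => Scheme.Modules.hom_ext _ _ fun U => by
    ext z
    have e' : α.app U (u.app U z) = α.app U (v.app U z) := congrArg (fun χ => χ.app U z) e
    rw [hap, hap] at e'
    exact sub_eq_zero.1 (hinj U _ ((sub_smul _ _ _).trans (sub_eq_zero.2 e')))⟩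
  let S : ShortComplex C.Modules := ShortComplex.mk α (cokernel.π α) (cokernel.condition α)
  have hS : S.ShortExact :=
    { exact := ShortComplex.exact_of_g_is_cokernel _ (cokernelIsCokernel _)
      mono_f := inferInstanceAs (Mono α)
      epi_g := inferInstanceAs (Epi (cokernel.π α)) }
  have hπs : ∀ (U : C.Opens) (c : Γ(C, U)), S.g.app U (c • mres D.L le_top D.s) = 0 := fun U c => by
    have h := congrArg (fun χ => χ.app U (show Γ(Coh.structureModule C, U) from c)) S.zero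
    refine Eq.trans ?_ (h.trans rfl)
    exact congrArg (S.g.app U) (Twist.secHom_app _ U c).symm
  let D₀ := f ⁻¹ᵁ V ⊓ EffCartier.cmpl σ.ker
  obtain ⟨q, hq1, hq2⟩ := exists_glue₂ S.X₃ K.le (inf_le_left : D₀ ≤ f ⁻¹ᵁ V) (cover hσ K)
    (S.g.app K.W K.g) 0 (by
      rw [map_zero, ← M1.app_mres]
      obtain ⟨c, hc⟩ := (((isGen_off (D := D)).mres (inf_le_right : D₀ ≤ EffCartier.cmpl σ.ker)) (K.W ⊓ D₀)
        inf_le_right).2 (mres D.L inf_le_left K.g)
      simp only [mres_mres] at hc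
      rw [← hc, hπs])
  have hsub : Subsingleton (CohFound.Hc ((CohFound.abF C).obj (Coh.structureModule C)) 1 (f ⁻¹ᵁ V)) := by
    obtain ⟨e⟩ := CohFound.nonempty_hc_abF_restrict (f ⁻¹ᵁ V).ι (Coh.structureModule C) 1 ⊤
    rw [Scheme.Opens.ι_image_top] at e
    exact @Equiv.subsingleton _ _ e.symm.toEquiv ((CohFound.subsingleton_HH_iff _ _).1 (subsingleton_H1 hf hV))
  obtain ⟨r, hr⟩ := CohFound.exact₃ (CohFound.shortExact_abF hS) 0 (f ⁻¹ᵁ V)
    ((CohFound.hc0 ((CohFound.abF C).obj S.X₃) (f ⁻¹ᵁ V)).symm q) (@Subsingleton.elim _ hsub _ _)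
  refine ⟨CohFound.hc0 ((CohFound.abF C).obj S.X₂) (f ⁻¹ᵁ V) r, ?_⟩
  have ht : S.g.app (f ⁻¹ᵁ V) (CohFound.hc0 ((CohFound.abF C).obj S.X₂) (f ⁻¹ᵁ V) r) = q := by
    have := congrArg (CohFound.hc0 ((CohFound.abF C).obj S.X₃) (f ⁻¹ᵁ V)) hr
    rw [AddEquiv.apply_symm_apply] at this
    exact Eq.trans (CohFound.hc0_mp ((CohFound.abF C).map S.g) (f ⁻¹ᵁ V) r).symm this
  generalize (CohFound.hc0 ((CohFound.abF C).obj S.X₂) (f ⁻¹ᵁ V) r) = t at ht ⊢
  have h0 : S.g.app K.W (mres D.L K.le t - K.g) = 0 := by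
    rw [map_sub, M1.app_mres, sub_eq_zero]
    exact (congrArg _ ht).trans hq1
  obtain ⟨c, hc⟩ := M1.sections_exact (S := S) hS.exact K.W _ h0
  have hc' : (show Γ(C, K.W) from c) • mres D.L le_top D.s = mres D.L K.le t - K.g :=
    (Twist.secHom_app _ _ c).symm.trans hc
  rw [K.sec, ← mul_smul] at hc'
  have hco : K.coef t = (show Γ(C, K.W) from c) * K.φ + 1 := by
    refine K.coef_eq ?_
    rw [add_smul, one_smul, hc', sub_add_cancel]
  rw [Chart.ev, hco]
  show σ.appLE K.W V K.pre ((show Γ(C, K.W) from c) * K.φ + 1) = 1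
  rw [map_add, map_mul, map_one, show σ.appLE K.W V K.pre K.φ = 0 from K.val_phi, mul_zero, zero_add]

end Chart

include hσ in
/-- Near every point of the base `f_* O(σ)` has a basis starting with the section of the divisor. -/
theorem exists_basis (hf : IsP1Fam f) (x : B) (T : B.Opens) (hx : x ∈ T) :
    ∃ (V : B.Opens) (K : Chart (f := f) D V) (t : Γ(D.L, f ⁻¹ᵁ V)), x ∈ V ∧ V ≤ T ∧ IsAffineOpen V ∧ K.ev t = 1 ∧
      P1Split.IsBas ((Scheme.Modules.pushforward f).obj D.L) V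
        ![(show Γ((Scheme.Modules.pushforward f).obj D.L, V) from mres D.L le_top D.s),
          (show Γ((Scheme.Modules.pushforward f).obj D.L, V) from t)] := by
  obtain ⟨V, K, hxV, hVT, hV⟩ := exists_chart hσ (D := D) x T hx
  obtain ⟨t, ht⟩ := Chart.exists_ev_one hσ K hf hV
  refine ⟨V, K, t, hxV, hVT, hV, ht, fun V' h => ?_⟩
  let K' := K.res h hσ
  let pL := (Scheme.Modules.pushforward f).obj D.L
  let t' : Γ(D.L, f ⁻¹ᵁ V') := mres D.L (f.preimage_mono h) t
  let s' : Γ(D.L, f ⁻¹ᵁ V') := mres D.L le_top D.s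
  have ht' : K'.ev t' = 1 := by
    have hc : K'.coef t' = ores (inf_le_left : K.W ⊓ f ⁻¹ᵁ V' ≤ K.W) (K.coef t) := by
      refine K'.coef_eq ?_
      show ores inf_le_left (K.coef t) • mres D.L inf_le_left K.g = mres D.L _ (mres D.L _ t)
      rw [← mres_smul, K.coef_spec, mres_mres, mres_mres]
      rfl
    show σ.appLE _ V' K'.pre (K'.coef t') = 1
    refine (congrArg (σ.appLE _ V' K'.pre) hc).trans ?_
    have hnat : σ.appLE (K.W ⊓ f ⁻¹ᵁ V') V' K'.pre (ores (inf_le_left : K.W ⊓ f ⁻¹ᵁ V' ≤ K.W) (K.coef t)) =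
        ores h (σ.appLE K.W V K.pre (K.coef t)) := by
      show (C.presheaf.map (homOfLE (inf_le_left : K.W ⊓ f ⁻¹ᵁ V' ≤ K.W)).op ≫ σ.appLE _ V' K'.pre) (K.coef t) =
        (σ.appLE K.W V K.pre ≫ B.presheaf.map (homOfLE h).op) (K.coef t)
      rw [Scheme.Hom.map_appLE, Scheme.Hom.appLE_map]
    refine hnat.trans ?_
    rw [show σ.appLE K.W V K.pre (K.coef t) = 1 from ht, map_one]
  have key : ∀ c : Fin 2 → Γ(B, V'),
      (∑ i, c i • mres pL h (![(show Γ(pL, V) from mres D.L le_top D.s), (show Γ(pL, V) from t)] i) : Γ(pL, V')) =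
        (show Γ(pL, V') from f.app V' (c 0) • s' + f.app V' (c 1) • t') := fun c => by
    rw [Fin.sum_univ_two]
    refine congrArg₂ (· + ·) ?_ rfl
    show f.app V' (c 0) • mres D.L (f.preimage_mono h) (mres D.L le_top D.s) = f.app V' (c 0) • s'
    rw [mres_mres]
  have hs0 : K'.ev s' = 0 := K'.ev_sec
  have hev : ∀ a b : Γ(B, V'), K'.ev (f.app V' a • s' + f.app V' b • t') = b := fun a b => by
    rw [Chart.ev_add, Chart.ev_smul hσ, Chart.ev_smul hσ, ht', hs0, mul_zero, mul_one, zero_add]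
  constructor
  · intro c d hcd
    replace hcd := (key c).symm.trans (hcd.trans (key d))
    have h1 : c 1 = d 1 := by rw [← hev (c 0) (c 1), ← hev (d 0) (d 1)]; exact congrArg K'.ev hcd
    have h0 : c 0 = d 0 := by
      have e : (f.app V' (c 0) - f.app V' (d 0)) • s' = 0 := by
        rw [sub_smul, sub_eq_zero]
        rw [h1] at hcd
        exact add_right_cancel hcd
      exact (bijective_app hf V').1 (sub_eq_zero.1 (Chart.smul_sec_eq_zero hσ e K'))
    funext i
    fin_cases i <;> assumption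
  · intro v
    let v₁ : Γ(D.L, f ⁻¹ᵁ V') := v
    let b := K'.ev v₁
    have hz : K'.ev (v₁ - f.app V' b • t') = 0 := by
      have : K'.ev v₁ = K'.ev (v₁ - f.app V' b • t') + b := by
        conv_lhs => rw [← sub_add_cancel v₁ (f.app V' b • t')]
        rw [Chart.ev_add, Chart.ev_smul hσ, ht', mul_one]
      exact left_eq_add.1 (this.trans (add_comm _ _)) |> fun h => h
    obtain ⟨c, hc⟩ := Chart.exists_glob hσ K' hz
    obtain ⟨a, rfl⟩ := (bijective_app hf V').2 c
    refine ⟨![a, b], ?_⟩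
    refine (key _).trans ?_
    show f.app V' a • s' + f.app V' b • t' = v₁
    rw [hc, sub_add_cancel]

end Groth.Agent.P1Bun1
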