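import Groth.Agent.Lib.P1Bun1.Deg
import Groth.Agent.Lib.SmProj2.Main
import Groth.Agent.Lib.PBK5.Chart
import Groth.Agent.Lib.ResDesc11.Basic
import Groth.Agent.Lib.CohFound.ProjRelVan
import Groth.Agent.S10888
import Mathlib.AlgebraicGeometry.Morphisms.FlatDescent

/-!
# A family of lines with a section is the projective bundle of `f_* O(σ)`
-/

set_option autoImplicit false
set_option linter.style.haveILetI false
set_option maxHeartbeats 2000000
set_option backward.isDefEq.respectTransparency false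
set_option backward.isDefEq.respectTransparency.types false

universe u

open CategoryTheory CategoryTheory.Limits AlgebraicGeometry TopologicalSpace Opposite

noncomputable section

namespace Groth.Agent.P1Bun1

open Groth.Agent.M1

variable {C B : Scheme.{u}} {f : C ⟶ B} [IsProper f] [SmoothOfRelativeDimension 1 f] {σ : B ⟶ C}
  (hσ : σ ≫ f = 𝟙 B) (hf : IsP1Fam f) (D : DivSec σ.ker)

/-- The counit. -/
abbrev quot : (Scheme.Modules.pullback f).obj ((Scheme.Modules.pushforward f).obj D.L) ⟶ D.L :=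
  (Scheme.Modules.pullbackPushforwardAdjunction f).counit.app D.L

omit [IsProper f] [SmoothOfRelativeDimension 1 f] in
theorem quot_pullSec {U : B.Opens} (e : Γ((Scheme.Modules.pushforward f).obj D.L, U)) :
    (quot D (f := f)).app (f ⁻¹ᵁ U) (M2.pullSec f _ e) = e := by
  exact congrArg (fun χ : (Scheme.Modules.pushforward f).obj D.L ⟶ (Scheme.Modules.pushforward f).obj D.L => χ.app U e)
    ((Scheme.Modules.pullbackPushforwardAdjunction f).right_triangle_components D.L)

include hσ hf in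
theorem isFinLocFreeOfRank_push : FlatMod.IsFinLocFreeOfRank 2 ((Scheme.Modules.pushforward f).obj D.L) := fun x => by
  obtain ⟨V, K, t, hxV, -, -, -, hbas⟩ := exists_basis hσ (D := D) hf x ⊤ trivial
  exact ⟨V, hxV, ResDesc11.nonempty_restrict_iso_free hbas⟩

include hσ in
/-- On the chart a section of value one generates near the section. -/
theorem isUnit_coef {V : B.Opens} (K : Chart (f := f) D V) {t : Γ(D.L, f ⁻¹ᵁ V)} (ht : K.ev t = 1) {x : B}
    (hx : x ∈ V) : σ x ∈ C.basicOpen (K.coef t) := by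
  have h1 : x ∈ B.basicOpen (σ.appLE K.W V K.pre (K.coef t)) := by
    rw [show σ.appLE K.W V K.pre (K.coef t) = 1 from ht, B.basicOpen_of_isUnit isUnit_one]
    exact hx
  rw [Scheme.Hom.appLE, ConcreteCategory.comp_apply, Scheme.basicOpen_res] at h1
  have h2 : x ∈ σ ⁻¹ᵁ C.basicOpen (K.coef t) := by
    rw [Scheme.preimage_basicOpen]; exact h1.2
  exact h2

include hσ hf in
theorem epi_quot : Epi (quot D (f := f)) := by
  refine (M1.epi_iff_stalk _).2 fun y a => ?_
  obtain ⟨V, K, t, hxV, -, -, ht, -⟩ := exists_basis hσ (D := D) hf (f y) ⊤ trivial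
  let E := (Scheme.Modules.pushforward f).obj D.L
  suffices key : ∃ e : Γ(E, V), Amp.Gen (Amp.gm D.L y (U := f ⁻¹ᵁ V) hxV (show Γ(D.L, f ⁻¹ᵁ V) from e)) by
    obtain ⟨e, he⟩ := key
    obtain ⟨c, hc⟩ := he.2 a
    refine ⟨c • ((Scheme.Modules.pullback f).obj E).presheaf.germ (f ⁻¹ᵁ V) y hxV (M2.pullSec f E e), ?_⟩
    refine ((KFlat.Sch.stk (quot D) y).map_smul c _).trans (Eq.trans ?_ hc)
    refine congrArg (c • ·) ((TopCat.Presheaf.stalkFunctor_map_germ_apply (f ⁻¹ᵁ V) y hxV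
      ((Scheme.Modules.toPresheaf C).map (quot D)) (M2.pullSec f E e)).trans ?_)
    exact congrArg (D.L.presheaf.germ (f ⁻¹ᵁ V) y hxV) (quot_pullSec D e)
  by_cases hy : y ∈ Set.range σ
  · refine ⟨(show Γ(E, V) from t), ?_⟩
    obtain ⟨x, rfl⟩ := hy
    have hx' : x ∈ V := by
      have : f (σ x) = x := by rw [← Scheme.Hom.comp_apply, hσ]; rfl
      rw [← this]; exact hxV
    have hb := isUnit_coef hσ D K ht hx'
    have hgen : Amp.Gen (Amp.gm D.L (σ x) (U := K.W) (K.pre hx') K.g) := Amp.gen_of_isGenerator K.gen _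
    have he : Amp.gm D.L (σ x) (U := f ⁻¹ᵁ V) hxV t =
        C.presheaf.germ K.W (σ x) (K.pre hx') (K.coef t) • Amp.gm D.L (σ x) (U := K.W) (K.pre hx') K.g := by
      have h1 := D.L.presheaf.germ_res_apply (homOfLE K.le) (σ x) (K.pre hx') t
      have h2 := congrArg (D.L.presheaf.germ K.W (σ x) (K.pre hx')) (K.coef_spec t)
      rw [M1.germ_smul] at h2
      exact (h2.trans h1).symm
    rw [he, hgen.ne_zero_smul]
    exact (Scheme.mem_basicOpen C _ _ _).1 hb
  · refine ⟨(show Γ(E, V) from mres D.L le_top D.s), ?_⟩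
    have hy' : y ∈ f ⁻¹ᵁ V ⊓ EffCartier.cmpl σ.ker := ⟨hxV, (mem_cmpl_iff hσ y).2 hy⟩
    have hg := Amp.gen_of_isGenerator ((isGen_off (D := D)).mres (inf_le_right : f ⁻¹ᵁ V ⊓ EffCartier.cmpl σ.ker ≤ _)) hy'
    convert hg using 1
    refine (D.L.presheaf.germ_res_apply (homOfLE (le_top : f ⁻¹ᵁ V ≤ ⊤)) y hxV D.s).trans ?_
    rw [mres_mres]
    exact (D.L.presheaf.germ_res_apply (homOfLE (le_top : f ⁻¹ᵁ V ⊓ EffCartier.cmpl σ.ker ≤ ⊤)) y hy' D.s).symm

/-- Two maps out of an inverse image agreeing on inverse images of sections are equal. -/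
theorem hom_ext_pull {W Z : Scheme.{u}} (p : W ⟶ Z) {M : Z.Modules} {N : W.Modules}
    (α β : (Scheme.Modules.pullback p).obj M ⟶ N)
    (h : ∀ (U : Z.Opens) (s : Γ(M, U)), α.app (p ⁻¹ᵁ U) (M2.pullSec p M s) = β.app (p ⁻¹ᵁ U) (M2.pullSec p M s)) :
    α = β := by
  refine ((Scheme.Modules.pullbackPushforwardAdjunction p).homEquiv M N).injective ?_
  refine Scheme.Modules.hom_ext _ _ fun U => ?_
  ext s
  rw [Adjunction.homEquiv_unit, Adjunction.homEquiv_unit]
  exact h U s

theorem congr_value {T P : Scheme.{u}} {r₁ r₀ : T ⟶ P} (he : r₁ = r₀) {O1 : P.Modules} {L' : T.Modules}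
    (τ₀ : (Scheme.Modules.pullback r₀).obj O1 ≅ L') {U : P.Opens} {W : T.Opens} (h₁ : W ≤ r₁ ⁻¹ᵁ U)
    (h₂ : W ≤ r₀ ⁻¹ᵁ U) (z : Γ(O1, U)) :
    mres L' h₁ (((Scheme.Modules.pullbackCongr he).app O1 ≪≫ τ₀).hom.app (r₁ ⁻¹ᵁ U) (M2.pullSec r₁ O1 z)) =
      mres L' h₂ (τ₀.hom.app (r₀ ⁻¹ᵁ U) (M2.pullSec r₀ O1 z)) := by
  subst he
  simp [Scheme.Modules.pullbackCongr]

/-- The universal property passes along an isomorphism of the total spaces. -/
theorem isProjBundle_of_iso {X P C : Scheme.{u}} {p : P ⟶ X} {E : X.Modules} {O1 : P.Modules}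
    {q : (Scheme.Modules.pullback p).obj E ⟶ O1} (hP : KRR.IsProjBundle p E O1 q) (h : C ⟶ P) [IsIso h]
    {f : C ⟶ X} (hh : h ≫ p = f) {L : C.Modules} (e : (Scheme.Modules.pullback h).obj O1 ≅ L)
    {s : (Scheme.Modules.pullback f).obj E ⟶ L} (hs : Epi s) (hL : FlatMod.IsFinLocFreeOfRank 1 L)
    (hcomp : (Scheme.Modules.pullbackCongr hh).inv.app E ≫ (Scheme.Modules.pullbackComp h p).inv.app E ≫
        (Scheme.Modules.pullback h).map q ≫ e.hom = s) : KRR.IsProjBundle f E L s := by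
  refine ⟨hL, hs, fun T g L' hL' s' hs' => ?_⟩
  subst hh
  have hval : ∀ (W : X.Opens) (x : Γ(E, W)), s.app ((h ≫ p) ⁻¹ᵁ W) (M2.pullSec (h ≫ p) E x) =
      (show Γ(L, (h ≫ p) ⁻¹ᵁ W) from
        e.hom.app (h ⁻¹ᵁ (p ⁻¹ᵁ W)) (M2.pullSec h O1 (q.app (p ⁻¹ᵁ W) (M2.pullSec p E x)))) := fun W x => by
    rw [← hcomp]
    exact (PBundle2.classify_value q h rfl e.hom x).trans (mres_id _ _ _)
  -- the transition between the two forms of a classification
  have key : ∀ (r : T ⟶ C) (hr : r ≫ h ≫ p = g) (τ : (Scheme.Modules.pullback r).obj L ≅ L'),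
      ((Scheme.Modules.pullbackCongr hr).inv.app E ≫ (Scheme.Modules.pullbackComp r (h ≫ p)).inv.app E ≫
        (Scheme.Modules.pullback r).map s ≫ τ.hom) =
      ((Scheme.Modules.pullbackCongr (show (r ≫ h) ≫ p = g by rw [Category.assoc, hr])).inv.app E ≫
        (Scheme.Modules.pullbackComp (r ≫ h) p).inv.app E ≫ (Scheme.Modules.pullback (r ≫ h)).map q ≫
          ((Scheme.Modules.pullbackComp r h).inv.app O1 ≫ (Scheme.Modules.pullback r).map e.hom ≫ τ.hom)) := by
    intro r hr τ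
    refine hom_ext_pull g _ _ fun W x => ?_
    rw [PBundle2.classify_value s r hr τ.hom x, PBundle2.classify_value q (r ≫ h) _ _ x, hval W x]
    refine congrArg (mres L' _) ?_
    have h1 : ((Scheme.Modules.pullbackComp r h).inv.app O1).app ((r ≫ h) ⁻¹ᵁ (p ⁻¹ᵁ W))
        (M2.pullSec (r ≫ h) O1 (q.app (p ⁻¹ᵁ W) (M2.pullSec p E x))) =
        M2.pullSec r _ (M2.pullSec h O1 (q.app (p ⁻¹ᵁ W) (M2.pullSec p E x))) :=
      VA11.pullbackComp_inv_pullSec r h O1 _
    show _ = ((Scheme.Modules.pullbackComp r h).inv.app O1 ≫ (Scheme.Modules.pullback r).map e.hom ≫ τ.hom).app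
      ((r ≫ h) ⁻¹ᵁ (p ⁻¹ᵁ W)) (M2.pullSec (r ≫ h) O1 (q.app (p ⁻¹ᵁ W) (M2.pullSec p E x)))
    rw [comp_app_apply, comp_app_apply, h1]
    exact congrArg (τ.hom.app _) (DMon9.pull_map_pullSec r e.hom _).symm
  obtain ⟨r₀, ⟨hr₀, τ₀, hτ₀⟩, huniq⟩ := hP.univ T g L' hL' s' hs'
  have hr : (r₀ ≫ inv h) ≫ h ≫ p = g := by rw [Category.assoc, IsIso.inv_hom_id_assoc, hr₀]
  refine ⟨r₀ ≫ inv h, ⟨hr, ?_⟩, fun r ⟨hrf, τ, hτ⟩ => ?_⟩
  · have he : (r₀ ≫ inv h) ≫ h = r₀ := by simp
    let ψ : (Scheme.Modules.pullback ((r₀ ≫ inv h) ≫ h)).obj O1 ≅ L' := (Scheme.Modules.pullbackCongr he).app O1 ≪≫ τ₀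
    let τ : (Scheme.Modules.pullback (r₀ ≫ inv h)).obj L ≅ L' :=
      (Scheme.Modules.pullback (r₀ ≫ inv h)).mapIso e.symm ≪≫ (Scheme.Modules.pullbackComp _ h).app O1 ≪≫ ψ
    refine ⟨τ, (key _ hr τ).trans (Eq.trans ?_ hτ₀)⟩
    have hc : (Scheme.Modules.pullbackComp (r₀ ≫ inv h) h).inv.app O1 ≫
        (Scheme.Modules.pullback (r₀ ≫ inv h)).map e.hom ≫ τ.hom = ψ.hom := by
      simp [τ, ← Functor.map_comp_assoc]
    rw [hc]
    refine hom_ext_pull g _ _ fun W x => ?_
    rw [PBundle2.classify_value q _ _ ψ.hom x, PBundle2.classify_value q r₀ hr₀ τ₀.hom x]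
    exact congr_value he τ₀ _ _ _
  · have := huniq (r ≫ h) ⟨by rw [Category.assoc, hrf],
      (Scheme.Modules.pullbackComp r h).symm.app O1 ≪≫ (Scheme.Modules.pullback r).mapIso e ≪≫ τ,
      (key r hrf τ).symm.trans hτ⟩
    rw [← this, Category.assoc, IsIso.hom_inv_id, Category.comp_id]

include hσ hf in
/-- The classifying map of the fibre is an isomorphism. -/
theorem isIso_classify {P : Scheme.{u}} {p : P ⟶ B} {O1 : P.Modules}
    {q : (Scheme.Modules.pullback p).obj ((Scheme.Modules.pushforward f).obj D.L) ⟶ O1}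
    (hP : KRR.IsProjBundle p ((Scheme.Modules.pushforward f).obj D.L) O1 q) (h : C ⟶ P) (hh : h ≫ p = f)
    (e : (Scheme.Modules.pullback h).obj O1 ≅ D.L) : IsIso h := by
  have hE := isFinLocFreeOfRank_push hσ hf D
  have hElf : FlatMod.IsFinLocFree ((Scheme.Modules.pushforward f).obj D.L) := fun x => by
    obtain ⟨U, hxU, i⟩ := hE x; exact ⟨U, 2, hxU, i⟩
  haveI : Smooth f := SmoothOfRelativeDimension.smooth 1 f
  haveI : IsProper p := by
    choose V K t hxV _ hV _ hbas using fun x : B => exists_basis hσ (D := D) hf x ⊤ trivial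
    refine IsZariskiLocalAtTarget.of_iSup_eq_top (P := @IsProper) (fun x => V x)
      (eq_top_iff.2 fun x _ => Opens.mem_iSup.2 ⟨x, hxV x⟩) fun x => ?_
    obtain ⟨bas⟩ := BlowKoszul2.nonempty_basis (le_refl (V x)) (hbas x)
    obtain ⟨φ, hφ, -⟩ := PBK5.exists_chart_iso hP (M2.isQCoh_of_isFinLocFree hElf) (hV x) bas
    have hπ : p ∣_ V x = φ.hom ≫ CohB1.ProjSpace.toSpec 1 Γ(B, V x) ≫ (hV x).isoSpec.inv := by
      rw [← Category.assoc, hφ, Category.assoc, Iso.hom_inv_id, Category.comp_id]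
    haveI : IsProper (CohB1.ProjSpace.toSpec 1 Γ(B, V x)) := ProjSpace.isProper_toSpec 1 _
    rw [hπ]
    infer_instance
  haveI : Smooth p := SmProj2.smooth_projBundle hP hElf
  have hfib : ∀ s : B, ∃ e' : f.fiber s ≅ p.fiber s, e'.hom ≫ p.fiberι s = f.fiberι s ≫ h := by
    intro s
    have sqC : IsPullback (f.fiberι s) (f.fiberToSpecResidueField s) f (B.fromSpecResidueField s) :=
      IsPullback.of_hasPullback _ _
    have sqP : IsPullback (p.fiberι s) (p.fiberToSpecResidueField s) p (B.fromSpecResidueField s) :=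
      IsPullback.of_hasPullback _ _
    let hs : f.fiber s ⟶ p.fiber s := sqP.lift (f.fiberι s ≫ h) (f.fiberToSpecResidueField s)
      (by rw [Category.assoc, hh]; exact sqC.w)
    suffices IsIso hs from ⟨asIso hs, sqP.lift_fst _ _ _⟩
    let κ := B.residueField s
    let K := AlgebraicClosure κ
    let a : Spec (CommRingCat.of K) ⟶ Spec (CommRingCat.of κ) := Spec.map (CommRingCat.ofHom (algebraMap κ K))
    let b := a ≫ B.fromSpecResidueField s
    obtain ⟨eY, heY⟩ := hf K b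
    let Y := pullback f b
    letI : Y.Over (Spec (CommRingCat.of K)) := ⟨pullback.snd f b⟩
    have sqY : IsPullback (pullback.fst f b) (Y ↘ Spec (CommRingCat.of K)) f b := IsPullback.of_hasPullback f b
    haveI : IsProper (Y ↘ Spec (CommRingCat.of K)) := MorphismProperty.of_isPullback (P := @IsProper) sqY inferInstance
    haveI := RegExt.isIntegral_projSpace 1 K
    haveI : Nonempty Y := ⟨eY.inv (genericPoint _)⟩
    haveI : IsIntegral Y := isIntegral_of_isOpenImmersion eY.hom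
    have hdimY : topologicalKrullDim Y = 1 := by
      refine (IsHomeomorph.topologicalKrullDim_eq _ eY.hom.homeomorph.isHomeomorph).trans ?_
      rw [Groth.Agent.S10829.result K 1]; rfl
    have hdeg := deg_fibre hσ D hdimY sqY
    -- the chart of the bundle
    have hsb : ∀ z, b z = s := fun z => by
      show B.fromSpecResidueField s (a z) = s
      exact Scheme.fromSpecResidueField_apply s _
    obtain ⟨V, Ch, t, hsV, -, hV, -, hbas⟩ := exists_basis hσ (D := D) hf s ⊤ trivial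
    obtain ⟨bas⟩ := BlowKoszul2.nonempty_basis (le_refl V) hbas
    obtain ⟨φ, hφ, ⟨eO⟩⟩ := PBK5.exists_chart_iso hP (M2.isQCoh_of_isFinLocFree hElf) hV bas
    let R := Γ(B, V)
    have hrange : Set.range b ⊆ Set.range hV.fromSpec := by
      rintro _ ⟨z, rfl⟩
      rw [hV.range_fromSpec, hsb z]
      exact hsV
    let β := IsOpenImmersion.lift hV.fromSpec b hrange
    obtain ⟨ρ, hρ⟩ : ∃ ρ : CommRingCat.of R ⟶ CommRingCat.of K, Spec.map ρ = β := ⟨Spec.preimage β, Spec.map_preimage β⟩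
    have hb : Spec.map ρ ≫ hV.fromSpec = b := by rw [hρ]; exact IsOpenImmersion.lift_fac _ _ _
    have sqR : IsPullback (φ.inv ≫ (p ⁻¹ᵁ V).ι) (CohB1.ProjSpace.toSpec 1 R) p hV.fromSpec := by
      refine (isPullback_morphismRestrict p V).flip.of_iso φ (Iso.refl _) hV.isoSpec (Iso.refl _) ?_ ?_ ?_ ?_
      · simp
      · rw [hφ]
      · simp
      · simp
    let j : CohB1.ProjSpace 1 K ⟶ P := ProjSpace.map 1 ρ.hom ≫ φ.inv ≫ (p ⁻¹ᵁ V).ι
    have sqK : IsPullback j (CohB1.ProjSpace.toSpec 1 K) p b := by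
      rw [← hb]
      exact (ProjSpace.isPullback_map 1 ρ.hom).paste_horiz sqR
    let r : Y ⟶ CohB1.ProjSpace 1 K := sqK.lift (pullback.fst f b ≫ h) (Y ↘ Spec (CommRingCat.of K))
      (by rw [Category.assoc, hh]; exact sqY.w)
    obtain ⟨eT⟩ := CohFound.nonempty_pullback_twistProjSpace 1 ρ.hom 1
    let eR : Twist.twistProjSpace 1 R 1 ≅ (Scheme.Modules.pullback (φ.inv ≫ (p ⁻¹ᵁ V).ι)).obj O1 :=
      (Scheme.Modules.pullbackId _).symm.app _ ≪≫ (Scheme.Modules.pullbackCongr φ.inv_hom_id.symm).app _ ≪≫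
        (Scheme.Modules.pullbackComp φ.inv φ.hom).symm.app _ ≪≫
        (Scheme.Modules.pullback φ.inv).mapIso (eO ≪≫ (Scheme.Modules.restrictFunctorIsoPullback (p ⁻¹ᵁ V).ι).app O1) ≪≫
        (Scheme.Modules.pullbackComp φ.inv (p ⁻¹ᵁ V).ι).app O1
    let eK : Twist.twistProjSpace 1 K 1 ≅ (Scheme.Modules.pullback j).obj O1 :=
      eT.symm ≪≫ (Scheme.Modules.pullback _).mapIso eR ≪≫ (Scheme.Modules.pullbackComp _ _).app O1
    let τ : (Scheme.Modules.pullback r).obj (Twist.twistProjSpace 1 K 1) ≅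
        (Scheme.Modules.pullback (pullback.fst f b)).obj D.L :=
      (Scheme.Modules.pullback r).mapIso eK ≪≫ (Scheme.Modules.pullbackComp r j).app O1 ≪≫
        (Scheme.Modules.pullbackCongr (sqK.lift_fst _ _ _)).app O1 ≪≫
        (Scheme.Modules.pullbackComp (pullback.fst f b) h).symm.app O1 ≪≫ (Scheme.Modules.pullback _).mapIso e
    haveI : IsIso r := isIso_of_deg_one hdimY r (sqK.lift_snd _ _ _) τ hdeg
    -- descent
    let gC : Y ⟶ f.fiber s := sqC.lift (pullback.fst f b) (pullback.snd f b ≫ a) (by rw [pullback.condition, Category.assoc])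
    let gP : CohB1.ProjSpace 1 K ⟶ p.fiber s := sqP.lift j (CohB1.ProjSpace.toSpec 1 K ≫ a) (by rw [sqK.w, Category.assoc])
    have sqgP : IsPullback gP (CohB1.ProjSpace.toSpec 1 K) (p.fiberToSpecResidueField s) a := by
      refine IsPullback.of_right ?_ (sqP.lift_snd _ _ _) sqP
      rw [sqP.lift_fst]; exact sqK
    have sqgC : IsPullback gC (r ≫ CohB1.ProjSpace.toSpec 1 K) (hs ≫ p.fiberToSpecResidueField s) a := by
      rw [sqK.lift_snd, sqP.lift_snd]
      refine IsPullback.of_right ?_ (sqC.lift_snd _ _ _) sqC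
      rw [sqC.lift_fst]; exact IsPullback.of_hasPullback f b
    have top : IsPullback gC r hs gP := by
      refine IsPullback.of_bot sqgC ?_ sqgP
      apply sqP.hom_ext
      · rw [Category.assoc, Category.assoc, sqP.lift_fst, sqP.lift_fst, sqK.lift_fst, ← Category.assoc, sqC.lift_fst]
      · rw [Category.assoc, Category.assoc, sqP.lift_snd, sqP.lift_snd, sqC.lift_snd, ← Category.assoc r,
          sqK.lift_snd]
        rfl
    have hQ : (@Surjective ⊓ @Flat ⊓ @QuasiCompact : MorphismProperty Scheme.{u}) gP := by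
      haveI : Surjective a := inferInstance
      haveI : Flat a := (HasRingHomProperty.Spec_iff (P := @Flat)).2 (RingHom.flat_algebraMap_iff.2 inferInstance)
      refine ⟨⟨?_, ?_⟩, ?_⟩
      · exact MorphismProperty.of_isPullback (P := @Surjective) sqgP.flip inferInstance
      · exact MorphismProperty.of_isPullback (P := @Flat) sqgP.flip inferInstance
      · exact MorphismProperty.of_isPullback (P := @QuasiCompact) sqgP.flip inferInstance
    exact MorphismProperty.of_isPullback_of_descendsAlong (P := MorphismProperty.isomorphisms Scheme.{u})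
      top.flip hQ (inferInstanceAs (IsIso r))
  obtain ⟨U, hU, hiso⟩ := S10888.result f p h hh
  have hUtop : U = ⊤ := top_le_iff.1 fun s _ => (hU s).2 (hfib s)
  subst hUtop
  have hiso' : IsIso (h ∣_ (⊤ : P.Opens)) := hiso
  exact (IsZariskiLocalAtTarget.iff_of_iSup_eq_top (P := MorphismProperty.isomorphisms Scheme.{u})
    (fun _ : Unit => (⊤ : P.Opens)) (by simp)).2 fun _ => hiso'

include hσ hf in
/-- The family is the projective bundle of `f_* O(σ)`. -/
theorem isProjBundle : KRR.IsProjBundle f ((Scheme.Modules.pushforward f).obj D.L) D.L (quot D) := by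
  have hE := isFinLocFreeOfRank_push hσ hf D
  have hEq : Coh.IsQCoh ((Scheme.Modules.pushforward f).obj D.L) := M2.isQCoh_of_isFinLocFree fun x => by
    obtain ⟨U, hxU, i⟩ := hE x; exact ⟨U, 2, hxU, i⟩
  obtain ⟨P, p, chart, hR⟩ := RelProj11.exists_isRelProj (VA11.symGr hEq)
  obtain ⟨O1, q, hP⟩ := SmProj2.exists_isProjBundle hEq (VA11.isGrSymAlg_symGr hEq) hR
  have hL : FlatMod.IsFinLocFreeOfRank 1 D.L := (M2.isInvertible_iff_isFinLocFreeOfRank_one _).1 D.inv
  obtain ⟨h, ⟨hh, e, hc⟩, -⟩ := hP.univ C f D.L hL (quot D) (epi_quot hσ hf D)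
  haveI := isIso_classify hσ hf D hP h hh e
  exact isProjBundle_of_iso hP h hh e (epi_quot hσ hf D) hL hc

end Groth.Agent.P1Bun1
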