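import Groth.Agent.Lib.P1Bun1.Basis
import Groth.Agent.Lib.CurveCoh17.P1Crit
import Groth.Agent.Lib.CurveCoh17.Pencil2
import Groth.Agent.Lib.CurveTwist13.Point
import Groth.Agent.Lib.CurveTwist13.PullIdeal
import Groth.Agent.Lib.TensorMod.PullTensor

/-!
# Degree one on the projective line
-/

set_option autoImplicit false
set_option linter.style.haveILetI false
set_option maxHeartbeats 1000000
set_option backward.isDefEq.respectTransparency false
set_option backward.isDefEq.respectTransparency.types false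

universe u

open CategoryTheory CategoryTheory.Limits AlgebraicGeometry TopologicalSpace Opposite

noncomputable section

namespace Groth.Agent.P1Bun1

open Groth.Agent.M1

/-- The inverse image of the ideal of a closed immersion is the ideal of its base change. -/
theorem ker_comap_of_isPullback {X Y Z Z' : Scheme.{u}} {i : Z ⟶ X} [IsClosedImmersion i] {g : Y ⟶ X}
    {g' : Z' ⟶ Z} {i' : Z' ⟶ Y} (sq : IsPullback i' g' g i) : i.ker.comap g = i'.ker := by
  have hi : i.toImage ≫ i.ker.subschemeι = i := i.toImage_imageι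
  have sq2 : IsPullback i' (g' ≫ i.toImage) g i.ker.subschemeι :=
    sq.of_iso (Iso.refl _) (Iso.refl _) (asIso i.toImage) (Iso.refl _) (by simp) (by simp) (by simp)
      (by simp [hi])
  show (pullback.fst g i.ker.subschemeι).ker = i'.ker
  rw [← sq2.isoPullback_hom_fst, Scheme.Hom.ker_comp_of_isIso]

section Field

variable {k : Type u} [Field k] {X : Scheme.{u}} [X.Over (Spec (CommRingCat.of k))]
  [IsProper (X ↘ Spec (CommRingCat.of k))] [IsIntegral X]

open CurveCoh17 in
/-- A map to the line pulling `O(1)` back to a module of degree one is an isomorphism. -/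
theorem isIso_of_deg_one (hdim : topologicalKrullDim X = 1) (r : X ⟶ CohB1.ProjSpace 1 k)
    (hr : r ≫ CohB1.ProjSpace.toSpec 1 k = X ↘ Spec (CommRingCat.of k)) {L : X.Modules}
    (τ : (Scheme.Modules.pullback r).obj (Twist.twistProjSpace 1 k 1) ≅ L)
    (hdeg : Curv2.deg k X L 1 = 1) : IsIso r := by
  have hX : CurveLike k X := VB17.curveLike hdim
  haveI := hX.noetherian
  let pY := CohB1.ProjSpace.toSpec 1 k
  letI : (CohB1.ProjSpace 1 k).Over (Spec (CommRingCat.of k)) := ⟨pY⟩
  haveI := RegExt.isIntegral_projSpace 1 k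
  haveI : IsProper pY := ProjSpace.isProper_toSpec 1 k
  haveI : IsProper ((CohB1.ProjSpace 1 k) ↘ Spec (CommRingCat.of k)) := ProjSpace.isProper_toSpec 1 k
  haveI : SmoothOfRelativeDimension 1 pY := ProjSpace.smoothOfRelativeDimension_toSpec 1 k
  haveI : Smooth pY := inferInstance
  have hdimY : topologicalKrullDim (CohB1.ProjSpace 1 k) = 1 := by rw [Groth.Agent.S10829.result k 1]; rfl
  have hnc : (Set.range r.base).Nontrivial := by
    by_contra hn
    rw [Set.not_nontrivial_iff] at hn
    obtain ⟨U, g, hxU, -, -, hg⟩ := Amp.exists_isGenerator (Twist.isInvertible_twistProjSpace 1 k 1)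
      (V := ⊤) (x := r (genericPoint X)) trivial
    have htop : (⊤ : X.Opens) ≤ r ⁻¹ᵁ U := fun x _ => by
      show r x ∈ U
      rw [show r x = r (genericPoint X) from hn ⟨x, rfl⟩ ⟨_, rfl⟩]
      exact hxU
    obtain ⟨τ', -⟩ := Twist.exists_iso_of_gen (P := Coh.structureModule X)
      (Q := (Scheme.Modules.pullback r).obj (Twist.twistProjSpace 1 k 1)) (fun _ : Unit => (⊤ : X.Opens))
      (by simp) (fun _ => M1.one ⊤)
      (fun _ => mres _ htop (M2.pullSec r _ g)) (fun _ => P1Split.isGen_one ⊤)
      (fun _ => (Twist.IsGen.pullback r hg).mres htop) (fun i j W hi hj t ht => by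
        have h1 : t = 1 := ((P1Split.isGen_one (⊤ : X.Opens)) W hi).1 (ht.symm.trans (one_smul Γ(X, W) _).symm)
        rw [h1, one_smul])
    rw [← deg_iso (τ' ≪≫ τ), deg_structureModule] at hdeg
    exact zero_ne_one hdeg
  have hξ : r (genericPoint X) = genericPoint (CohB1.ProjSpace 1 k) := Curve17.map_genericPoint hdimY.le r hnc
  haveI : IsProper (r ≫ pY) := by rw [hr]; infer_instance
  haveI : IsProper r := IsProper.of_comp r pY
  haveI : IsFinite r := AmpleFin18.isFinite_of_nonconstant hdim.le hdimY r hξ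
  have hd : r.residueDegree (genericPoint X) = 1 := by
    have h := Groth.Agent.S7640.result k X (CohB1.ProjSpace 1 k) hdim hdimY r hr hξ 1
      (Twist.twistProjSpace 1 k 1) ((M2.isInvertible_iff_isFinLocFreeOfRank_one _).1
        (Twist.isInvertible_twistProjSpace 1 k 1))
    rw [deg_iso τ, hdeg, deg_twistP1 k, mul_one] at h
    exact_mod_cast h.symm
  haveI : Flat r := Groth.Agent.S0220.result k X (CohB1.ProjSpace 1 k) (X ↘ Spec (CommRingCat.of k)) pY hdim hdimY
    (fun y => ⟨SmoothReg17.isDomain_stalk pY y, SmoothReg17.isIntegrallyClosed_stalk pY y⟩) r hr hnc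
  haveI : LocallyOfFinitePresentation r := by
    haveI : IsLocallyNoetherian (CohB1.ProjSpace 1 k) := LocallyOfFiniteType.isLocallyNoetherian pY
    exact LocallyOfFinitePresentation.iff_locallyOfFiniteType.2 inferInstance
  obtain ⟨n, hn⟩ := VB17.exists_rank_of_isFinLocFree (CurveCoh17.isFinLocFree_pushO r)
  obtain rfl : n = 1 := (VB17.finrank_stalk hn (r (genericPoint X))).symm.trans
    ((AmpleFin18.finrank_pushO_genericPoint hdim.le hdimY r hξ rfl).trans hd)
  exact CurveCoh17.isIso_of_rank_one r hn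

end Field

/-- On a geometric fibre `O(σ)` has degree one. -/
theorem deg_fibre {C B : Scheme.{u}} {f : C ⟶ B} [IsProper f] [SmoothOfRelativeDimension 1 f] {σ : B ⟶ C}
    (hσ : σ ≫ f = 𝟙 B) (D : DivSec σ.ker) {K : Type u} [Field K] [IsAlgClosed K] {Y : Scheme.{u}}
    [Y.Over (Spec (CommRingCat.of K))] [IsIntegral Y] (hdim : topologicalKrullDim Y = 1) {g : Y ⟶ C}
    {b : Spec (CommRingCat.of K) ⟶ B} (sq : IsPullback g (Y ↘ Spec (CommRingCat.of K)) f b) :
    Curv2.deg K Y ((Scheme.Modules.pullback g).obj D.L) 1 = 1 := by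
  haveI : MorphismProperty.IsStableUnderBaseChange (@SmoothOfRelativeDimension.{u} 1) :=
    smoothOfRelativeDimension_isStableUnderBaseChange 1
  haveI : SmoothOfRelativeDimension 1 (Y ↘ Spec (CommRingCat.of K)) :=
    MorphismProperty.of_isPullback (P := @SmoothOfRelativeDimension 1) sq inferInstance
  haveI : IsProper (Y ↘ Spec (CommRingCat.of K)) := MorphismProperty.of_isPullback (P := @IsProper) sq inferInstance
  let σK : Spec (CommRingCat.of K) ⟶ Y :=
    sq.lift (b ≫ σ) (𝟙 _) (by rw [Category.assoc, hσ, Category.comp_id, Category.id_comp])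
  have hσK : σK ≫ (Y ↘ Spec (CommRingCat.of K)) = 𝟙 _ := sq.lift_snd _ _ _
  haveI := isClosedImmersion_sec (f := f) hσ
  have hsq : IsPullback σK b g σ := by
    refine (IsPullback.of_bot ?_ (sq.lift_fst _ _ _).symm sq).flip
    rw [hσK, hσ]
    exact IsPullback.of_vert_isIso ⟨by simp⟩
  have hker : σ.ker.comap g = σK.ker := ker_comap_of_isPullback hsq
  have hI : BlowUp.IsEffCartierIdeal σ.ker := (S15990.result f σ hσ).1
  have hIK : BlowUp.IsEffCartierIdeal (σ.ker.comap g) := by
    rw [hker]; exact (S15990.result _ σK hσK).1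
  obtain ⟨e⟩ := CurveTwist13.nonempty_pullback_idealMod_iso g hI hIK
  obtain ⟨ε⟩ := D.inverse
  obtain ⟨hP, hkP, hres⟩ := CurveTwist13.ker_section σK hσK
  let LK := (Scheme.Modules.pullback g).obj D.L
  let IK := ClSub.idealMod (σ.ker.comap g)
  have hX := CurveAmple18.curveLike K Y hdim.le
  haveI := hX.noetherian
  have hLK : PicF.IsInvertible LK := Twist.isInvertible_pullback g D.inv
  have hIKi : PicF.IsInvertible IK := M2.isInvertible_idealMod _ hIK
  have e2 : CohB1.tensorMod LK IK ≅ Coh.structureModule Y :=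
    M2.tensorIso (Iso.refl _) e.symm ≪≫ (M2.pullTensorIso g _ _).symm ≪≫
      (Scheme.Modules.pullback g).mapIso ε ≪≫ Twist.pullbackUnitIso g
  have h := CurveCoh17.deg_iso (k := K) (r := 1) e2
  rw [hX.deg_tensor_invertible hLK hIKi, CurveCoh17.deg_structureModule] at h
  have hI1 : Curv2.deg K Y IK 1 = -1 := by
    show Curv2.deg K Y (ClSub.idealMod (σ.ker.comap g)) 1 = -1
    rw [hker, hkP]
    exact CurveTwist13.deg_pointIdeal_rational hdim hP hres
  show Curv2.deg K Y LK 1 = 1
  omega

end Groth.Agent.P1Bun1
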