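import Groth.Agent.Lib.CurveR1_10.Basic
import Groth.Agent.Lib.CurveCoh17.GenusBC
import Groth.Agent.Lib.CurveCoh17.P1Genus
import Groth.Agent.Lib.CurveAmple18.PointTwist
import Groth.Agent.Lib.FibGenApp4
import Groth.Agent.Lib.CMReg18.UnifVan
import Groth.Agent.S2768
import Groth.Prelude.Def_CohB1

/-!
# Families of projective lines: the fibres
-/

set_option autoImplicit false
set_option linter.style.haveILetI false
set_option backward.isDefEq.respectTransparency false

universe u

open CategoryTheory CategoryTheory.Limits AlgebraicGeometry TopologicalSpace Opposite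

noncomputable section

namespace Groth.Agent.P1Bun1

variable {C B : Scheme.{u}}

/-- Every geometric fibre is a projective line. -/
def IsP1Fam (f : C ⟶ B) : Prop :=
  ∀ (Ω : Type u) [Field Ω] [IsAlgClosed Ω] (b : Spec (CommRingCat.of Ω) ⟶ B),
      ∃ e : pullback f b ≅ CohB1.ProjSpace 1 Ω, e.hom ≫ CohB1.ProjSpace.toSpec 1 Ω = pullback.snd f b

variable {f : C ⟶ B}

theorem isP1Fam_of_isPullback (hf : IsP1Fam f) {C' B' : Scheme.{u}} {g : C' ⟶ C} {f' : C' ⟶ B'} {b : B' ⟶ B}
    (sq : IsPullback g f' f b) : IsP1Fam f' := by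
  intro Ω _ _ c
  obtain ⟨e, he⟩ := hf Ω (c ≫ b)
  let s : IsPullback (pullback.fst f' c ≫ g) (pullback.snd f' c) f (c ≫ b) :=
    (IsPullback.of_hasPullback f' c).paste_horiz sq
  refine ⟨s.isoPullback ≪≫ e, ?_⟩
  rw [Iso.trans_hom, Category.assoc, he, IsPullback.isoPullback_hom_snd]

/-- The numerical invariants of the fibres. -/
theorem fibre_data [IsProper f] [SmoothOfRelativeDimension 1 f] (hf : IsP1Fam f) (s : B) :
    topologicalKrullDim ↥(f.fiber s) ≤ 1 ∧ Function.Bijective (f.fiberToSpecResidueField s).appTop ∧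
      Subsingleton (CohIII.fiberH f (Coh.structureModule C) s 1) := by
  classical
  let κ := B.residueField s
  let K := AlgebraicClosure κ
  let a : Spec (CommRingCat.of K) ⟶ Spec (CommRingCat.of κ) := Spec.map (CommRingCat.ofHom (algebraMap κ K))
  obtain ⟨e, he⟩ := hf K (a ≫ B.fromSpecResidueField s)
  have sq : IsPullback (f.fiberι s) (f.fiberToSpecResidueField s) f (B.fromSpecResidueField s) :=
    IsPullback.of_hasPullback _ _
  let P := CohB1.ProjSpace 1 K
  let g0 : pullback f (a ≫ B.fromSpecResidueField s) ⟶ f.fiber s :=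
    sq.lift (pullback.fst _ _) (pullback.snd _ _ ≫ a) (by rw [pullback.condition, Category.assoc])
  have sq0 : IsPullback g0 (pullback.snd f (a ≫ B.fromSpecResidueField s)) (f.fiberToSpecResidueField s) a := by
    refine IsPullback.of_right ?_ (sq.lift_snd _ _ _) sq
    rw [sq.lift_fst]
    exact IsPullback.of_hasPullback _ _
  have sq1 : IsPullback (e.inv ≫ g0) (CohB1.ProjSpace.toSpec 1 K) (f.fiberToSpecResidueField s) a :=
    sq0.of_iso e (Iso.refl _) (Iso.refl _) (Iso.refl _) (by simp) (by simp [he]) (by simp) (by simp)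
  letI : (f.fiber s).Over (Spec (CommRingCat.of κ)) := ⟨f.fiberToSpecResidueField s⟩
  letI : P.Over (Spec (CommRingCat.of K)) := ⟨CohB1.ProjSpace.toSpec 1 K⟩
  haveI : IsProper (f.fiberToSpecResidueField s) := MorphismProperty.of_isPullback (P := @IsProper) sq inferInstance
  haveI : CompactSpace ↥(f.fiber s) := QuasiCompact.compactSpace_of_compactSpace (f.fiberToSpecResidueField s)
  haveI : (f.fiber s).IsSeparated := ⟨by
    rw [← terminal.comp_from (f.fiberToSpecResidueField s)]; infer_instance⟩
  have hdim : topologicalKrullDim ↥(f.fiber s) ≤ 1 :=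
    (Groth.Agent.FibGen4.dim_fiber_le_iff f s 1).2 fun x _ => le_of_eq (S2768.result 1 f x)
  have key := fun n => CurveCoh17.finrank_HH_of_isPullback (k := κ) (K := K) (X := f.fiber s) (Y := P) sq1 n
  haveI := RegExt.isIntegral_projSpace 1 K
  haveI : IsProper (P ↘ Spec (CommRingCat.of K)) := ProjSpace.isProper_toSpec 1 K
  have hdimY : topologicalKrullDim P = 1 := by rw [Groth.Agent.S10829.result K 1]; rfl
  have hX := CurveAmple18.curveLike K P hdimY.le
  have h0 : Module.finrank κ (Coh.HH (f.fiber s) (Coh.structureModule (f.fiber s)) 0) = 1 := by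
    rw [← key 0]; exact hX.h0_eq_one
  have h1 : Module.finrank κ (Coh.HH (f.fiber s) (Coh.structureModule (f.fiber s)) 1) = 0 := by
    rw [← key 1]; exact CurveCoh17.genus_P1 K
  refine ⟨hdim, CurveR1_10.bijective_appTop_of_hRank _ h0, ?_⟩
  haveI : IsProper ((f.fiber s) ↘ Spec (CommRingCat.of κ)) := ‹IsProper (f.fiberToSpecResidueField s)›
  haveI := CohFound.isNoetherian_of_isProper ((f.fiber s) ↘ Spec (CommRingCat.of κ))
  haveI := CohFound.finite_HH_of_isProper (A := κ) (Coh.structureModule (f.fiber s))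
    (Snapper.isCoh_of_isInvertible (PicLoc.isInvertible_structureModule (f.fiber s))) 1
  haveI := Module.finrank_zero_iff.1 h1
  exact (CurveCoh17.hequiv κ (Twist.pullbackUnitIso (f.fiberι s)) 1).toEquiv.subsingleton

/-- `O_B = f_* O_C`. -/
theorem bijective_app [IsProper f] [SmoothOfRelativeDimension 1 f] (hf : IsP1Fam f) (V : B.Opens) :
    Function.Bijective (f.app V) := by
  haveI : Smooth f := SmoothOfRelativeDimension.smooth 1 f
  exact CurveR1_10.bijective_app f (fun s => (fibre_data hf s).2.1) V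

/-- `H¹(f⁻¹V, O) = 0` over affine opens. -/
theorem subsingleton_H1 [IsProper f] [SmoothOfRelativeDimension 1 f] (hf : IsP1Fam f) {V : B.Opens}
    (hV : IsAffineOpen V) :
    Subsingleton (Coh.HH (f ⁻¹ᵁ V : C.Opens).toScheme ((Coh.structureModule C).restrict (f ⁻¹ᵁ V).ι) 1) := by
  haveI : Smooth f := SmoothOfRelativeDimension.smooth 1 f
  exact (CMReg18.isZero_rpushAb_iff_affine f (M1.isQCoh_structureModule C) 1).1
    (CMReg18.isZero_rpushAb_of_fibres CurveR1_10.isFP_structure (CurveR1_10.isFlatOver_structure f) 1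
      fun s => (fibre_data hf s).2.2) V hV

end Groth.Agent.P1Bun1
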