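import Groth.Agent.Lib.P1Bun1.Bundle
import Groth.Agent.Lib.CubeField.Simple
import Groth.Agent.Lib.CurveCartier25.RelDim
import Groth.Agent.Lib.CurvOpen16.Loci
import Groth.Agent.Lib.FibDim14.BaseChange
import Groth.Agent.S7834
import Mathlib.RingTheory.Artinian.Ring

/-!
# Families of genus zero with a section
-/

set_option autoImplicit false
set_option linter.style.haveILetI false
set_option maxHeartbeats 1000000
set_option backward.isDefEq.respectTransparency false
set_option backward.isDefEq.respectTransparency.types false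

universe u

open CategoryTheory CategoryTheory.Limits AlgebraicGeometry TopologicalSpace Opposite

noncomputable section

namespace Groth.Agent.P1Bun1

variable {C B : Scheme.{u}} {f : C ⟶ B}

/-- Geometric fibres of genus zero are lines. -/
theorem isP1Fam_of_genus_zero [IsProper f]
    (hfib : ∀ (K : Type u) [Field K] [IsAlgClosed K] (x : Spec (CommRingCat.of K) ⟶ B),
      IsIntegral (pullback f x) ∧ topologicalKrullDim ↥(pullback f x) = 1 ∧
        @Curv2.genus K _ (pullback f x) ⟨pullback.snd f x⟩ = 0) : IsP1Fam f := by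
  intro K _ _ x
  obtain ⟨hint, hdim, hg⟩ := hfib K x
  letI : (pullback f x).Over (Spec (CommRingCat.of K)) := ⟨pullback.snd f x⟩
  haveI := hint
  haveI : IsProper ((pullback f x) ↘ Spec (CommRingCat.of K)) :=
    MorphismProperty.of_isPullback (P := @IsProper) (IsPullback.of_hasPullback f x) inferInstance
  haveI := CubeField.geometricallyIntegral_of_isIntegral ((pullback f x) ↘ Spec (CommRingCat.of K))
  exact S7834.result K (pullback f x) hdim hg

/-- A smooth family of lines is smooth of relative dimension one. -/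
theorem smoothOfRelDim_of_fam [Smooth f] (hf : IsP1Fam f) : SmoothOfRelativeDimension 1 f := by
  refine (CurvOpen16.smoothOfRelativeDimension_one_iff f).2 fun a => ⟨⟨⊤, trivial, inferInstance⟩, ?_⟩
  let κ := B.residueField (f a)
  let K := AlgebraicClosure κ
  let i : Spec (CommRingCat.of K) ⟶ Spec (CommRingCat.of κ) := Spec.map (CommRingCat.ofHom (algebraMap κ K))
  let b := i ≫ B.fromSpecResidueField (f a)
  obtain ⟨e, he⟩ := hf K b
  haveI : SmoothOfRelativeDimension 1 (CohB1.ProjSpace.toSpec 1 K) := ProjSpace.smoothOfRelativeDimension_toSpec 1 K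
  haveI : SmoothOfRelativeDimension 1 (pullback.snd f b) := by
    rw [← he]
    exact (MorphismProperty.cancel_left_of_respectsIso (@SmoothOfRelativeDimension 1) e.hom _).2 inferInstance
  obtain ⟨z, hz, -⟩ := Scheme.Pullback.exists_preimage_pullback (f := f) (g := b) a default (by
    show f a = b default
    exact (Scheme.fromSpecResidueField_apply (f a) _).symm)
  have h := FibDim14.fibreDimAt_baseChange (IsPullback.of_hasPullback f b) z
  rw [hz] at h
  rw [← h]
  exact S2768.result 1 _ z

/-- A family of lines with a section is locally trivial. -/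
theorem exists_local_iso [IsProper f] [SmoothOfRelativeDimension 1 f] {σ : B ⟶ C} (hσ : σ ≫ f = 𝟙 B)
    (hf : IsP1Fam f) (s : B) :
    ∃ (V : B.Opens) (hV : IsAffineOpen V), s ∈ V ∧ ∃ g : CohB1.ProjSpace 1 Γ(B, V) ⟶ C,
      IsPullback g (CohB1.ProjSpace.toSpec 1 Γ(B, V)) f hV.fromSpec := by
  obtain ⟨D⟩ := exists_divSec (S15990.result f σ hσ).1
  have hE := isFinLocFreeOfRank_push hσ hf D
  obtain ⟨V, K, t, hsV, -, hV, -, hbas⟩ := exists_basis hσ (D := D) hf s ⊤ trivial
  obtain ⟨bas⟩ := BlowKoszul2.nonempty_basis (le_refl V) hbas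
  obtain ⟨φ, hφ, -⟩ := PBK5.exists_chart_iso (isProjBundle hσ hf D)
    (M2.isQCoh_of_isFinLocFree fun x => by obtain ⟨U, hxU, i⟩ := hE x; exact ⟨U, 2, hxU, i⟩) hV bas
  refine ⟨V, hV, hsV, φ.inv ≫ (f ⁻¹ᵁ V).ι, ?_⟩
  refine (isPullback_morphismRestrict f V).flip.of_iso φ (Iso.refl _) hV.isoSpec (Iso.refl _) ?_ ?_ ?_ ?_
  · simp
  · rw [hφ]
  · simp
  · simp

/-- Artinian local rings are henselian. -/
theorem henselianLocalRing_of_artinian (A : Type u) [CommRing A] [IsArtinianRing A] [IsLocalRing A] :
    HenselianLocalRing A := by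
  obtain ⟨n, hn⟩ := IsArtinianRing.isNilpotent_jacobson_bot (R := A)
  rw [IsLocalRing.jacobson_eq_maximalIdeal ⊥ bot_ne_top] at hn
  haveI : IsPrecomplete (IsLocalRing.maximalIdeal A) A := ⟨fun g hg => ⟨g n, fun m => by
    rcases le_total m n with h | h
    · exact hg h
    · have := (hg h).symm
      have hbot : (IsLocalRing.maximalIdeal A ^ n • ⊤ : Submodule A A) = ⊥ := by
        rw [hn]; simp
      rw [SModEq.sub_mem, hbot, Submodule.mem_bot, sub_eq_zero] at this
      rw [this]⟩⟩
  haveI : IsHausdorff (IsLocalRing.maximalIdeal A) A := ⟨fun x hx => by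
    have := hx n
    rw [hn] at this
    simpa [SModEq.zero] using this⟩
  haveI : IsAdicComplete (IsLocalRing.maximalIdeal A) A := {}
  exact { is_henselian := fun p hp a h1 h2 => HenselianRing.is_henselian p hp a h1 (IsUnit.map _ h2) }

end Groth.Agent.P1Bun1
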