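import Groth.Agent.Lib.Goodman10.Curves
import Groth.Agent.Lib.EffCartier.Basic

/-!
# The invertible module and section of an effective Cartier divisor, with local equations
-/

set_option autoImplicit false
set_option linter.style.haveILetI false
set_option backward.isDefEq.respectTransparency false
set_option backward.isDefEq.respectTransparency.types false

universe u

open CategoryTheory CategoryTheory.Limits AlgebraicGeometry TopologicalSpace Opposite

noncomputable section

namespace Groth.Agent.P1Bun1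

open Groth.Agent.M1

variable {X : Scheme.{u}}

/-- An invertible module with a section whose local values are the local equations of `I`. -/
structure DivSec (I : X.IdealSheafData) where
  L : X.Modules
  s : Γ(L, (⊤ : X.Opens))
  inv : PicF.IsInvertible L
  inverse : ClSub.IsInverseOf L (ClSub.idealMod I)
  loc : ∀ (x : X) (T : X.Opens), x ∈ T → ∃ (W : X.affineOpens) (φ : Γ(X, W.1)) (g : Γ(L, W.1)),
    x ∈ W.1 ∧ W.1 ≤ T ∧ EffCartier.IsEqn I W φ ∧ Twist.IsGen L W.1 g ∧ mres L le_top s = φ • g

/-- Every effective Cartier ideal has one. -/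
theorem exists_divSec {I : X.IdealSheafData} (hI : BlowUp.IsEffCartierIdeal I) : Nonempty (DivSec I) := by
  obtain ⟨M, hM, ⟨e⟩⟩ := M2.exists_inverse (M2.isInvertible_idealMod I hI)
  let φ₀ := e.inv ≫ CurveCoh17.twistIncl I M
  refine ⟨⟨M, Amp.gval φ₀, hM, ⟨M2.tensorComm _ _ ≪≫ e⟩, fun x T hxT => ?_⟩⟩
  obtain ⟨U, hxU, hUT, a, ha⟩ := EffCartier.exists_isEqn hI hxT
  obtain ⟨V, em, hxV, hVU, hV, hem⟩ := Amp.exists_isGenerator hM (V := U.1) (x := x) hxU
  let a' : Γ(X, V) := M1.ores hVU a
  obtain ⟨b, hb⟩ : a ∈ Set.range (M2.idealIncl I (U := U.1)) := by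
    rw [M2.range_idealIncl, ha.ideal_eq]; exact Ideal.mem_span_singleton_self a
  let b' : Γ(ClSub.idealMod I, V) := M1.mres _ hVU b
  have hb' : M2.idealIncl I b' = a' := by
    refine (M2.idealIncl_res I hVU b).trans ?_
    rw [hb]
  have hgb : Twist.IsGen (ClSub.idealMod I) V b' :=
    Twist.IsGen.mres (show Twist.IsGen _ U.1 b from M2.isGenerator_idealMod I a ha.mem ha.ideal_eq b hb) hVU
  have hgen := CurveOm17.isGen_tsec (A := ClSub.idealMod I) (B := M) hgb hem
  obtain ⟨r, hr⟩ := CurveOm17.exists_eq_smul_of_isGen hgen (e.inv.app V (M1.one V))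
  have hru : IsUnit r := by
    refine IsUnit.of_mul_eq_one (show Γ(X, V) from e.hom.app V (M2.tsec _ M b' em)) ?_
    refine Eq.trans ?_ (congrArg (fun ψ => ψ.app V (M1.one V)) e.inv_hom_id)
    show r * _ = e.hom.app V (e.inv.app V (M1.one V))
    rw [hr, Scheme.Modules.Hom.app_smul]
    rfl
  have hval : M1.mres M (le_top : V ≤ ⊤) (Amp.gval φ₀) = (r * a') • em := by
    refine (Amp.res_gval _ V).trans ?_
    show (CurveCoh17.twistIncl I M).app V (e.inv.app V (M1.one V)) = _
    rw [hr, Scheme.Modules.Hom.app_smul]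
    show r • (M2.tensorLUnit M).hom.app V ((M2.tensorMap (ClSub.idealModι I) (𝟙 M)).app V (M2.tsec _ M b' em)) = _
    rw [M2.tensorMap_tsec, CurveCoh17.tensorLUnit_tsec, mul_smul]
    exact congrArg (fun z : Γ(X, V) => r • z • em) hb'
  refine ⟨⟨V, hV⟩, r * a', em, hxV, hVU.trans hUT, ⟨?_, ?_⟩, hem, hval⟩
  · refine Submonoid.mul_mem _ hru.mem_nonZeroDivisors ?_
    rw [mem_nonZeroDivisors_iff_right]
    intro z hz
    refine (hgb V le_rfl).1 ?_
    show z • M1.mres _ le_rfl b' = (0 : Γ(X, V)) • M1.mres _ le_rfl b'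
    rw [M1.mres_id, zero_smul]
    refine M2.idealIncl_injective I V ?_
    rw [M2.idealIncl_smul, hb', hz]
    exact (map_zero ((ClSub.idealModι I).app V).hom).symm
  · rw [← I.map_ideal (show (⟨V, hV⟩ : X.affineOpens) ≤ U from hVU), ha.ideal_eq, Ideal.map_span,
      Set.image_singleton, Ideal.span_singleton_mul_left_unit hru]
    rfl

end Groth.Agent.P1Bun1
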