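import Groth.Agent.Lib.P1Bun1.Fibre
import Groth.Agent.Lib.P1Bun1.LineSec
import Groth.Agent.S15990
import Groth.Agent.Lib.PBK5.Large
import Groth.Agent.Lib.P1Split17.Basis

/-!
# Sections of `O(σ)` over a small open of the base
-/

set_option autoImplicit false
set_option linter.style.haveILetI false
set_option maxHeartbeats 800000
set_option backward.isDefEq.respectTransparency false
set_option backward.isDefEq.respectTransparency.types false

universe u

open CategoryTheory CategoryTheory.Limits AlgebraicGeometry TopologicalSpace Opposite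

noncomputable section

namespace Groth.Agent.P1Bun1

open Groth.Agent.M1

variable {C B : Scheme.{u}} {f : C ⟶ B} {σ : B ⟶ C} (hσ : σ ≫ f = 𝟙 B) (D : DivSec σ.ker)

/-- Two-piece gluing of sections. -/
theorem exists_glue₂ {X : Scheme.{u}} (M : X.Modules) {U V T : X.Opens} (hU : U ≤ T) (hV : V ≤ T)
    (hT : T ≤ U ⊔ V) (a : Γ(M, U)) (b : Γ(M, V))
    (hab : mres M (inf_le_left : U ⊓ V ≤ U) a = mres M (inf_le_right : U ⊓ V ≤ V) b) :
    ∃ c : Γ(M, T), mres M hU c = a ∧ mres M hV c = b := by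
  let W : Bool → X.Opens := fun i => bif i then U else V
  have hW : ∀ i, W i ≤ T := fun i => by cases i <;> assumption
  let sf : ∀ i, Γ(M, W i) := fun i => match i with
    | true => a
    | false => b
  obtain ⟨c, hc, -⟩ := TopCat.Sheaf.existsUnique_gluing' ⟨_, M.isSheaf⟩ W T (fun i => homOfLE (hW i))
    (fun x hx => Opens.mem_iSup.2 <| (hT hx).elim (fun h => ⟨true, h⟩) (fun h => ⟨false, h⟩)) sf fun i j => by
      cases i <;> cases j
      · rfl
      · show mres M (inf_le_left : V ⊓ U ≤ V) b = mres M (inf_le_right : V ⊓ U ≤ U) a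
        have h := congrArg (mres M (show V ⊓ U ≤ U ⊓ V from le_of_eq (inf_comm V U))) hab
        rw [mres_mres, mres_mres] at h
        exact h.symm
      · exact hab
      · rfl
  exact ⟨c, hc true, hc false⟩

/-- A chart of the divisor over `V`. -/
structure Chart (V : B.Opens) where
  W : C.Opens
  le : W ≤ f ⁻¹ᵁ V
  pre : V ≤ σ ⁻¹ᵁ W
  φ : Γ(C, W)
  g : Γ(D.L, W)
  gen : Twist.IsGen D.L W g
  b : Γ(ClSub.idealMod σ.ker, W)
  gen_b : Twist.IsGen (ClSub.idealMod σ.ker) W b
  b_eq : M2.idealIncl σ.ker b = φ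
  sec : mres D.L le_top D.s = φ • g

variable {D}

include hσ in
/-- Charts exist at every point of the base. -/
theorem exists_chart (x : B) (T : B.Opens) (hx : x ∈ T) :
    ∃ (V : B.Opens) (_ : Chart (f := f) D V), x ∈ V ∧ V ≤ T ∧ IsAffineOpen V := by
  have hfx : σ x ∈ f ⁻¹ᵁ T := by
    show f (σ x) ∈ T
    rw [← Scheme.Hom.comp_apply, hσ]; exact hx
  obtain ⟨W₀, φ, g, hxW, hWT, he, hg, hs⟩ := D.loc (σ x) _ hfx
  obtain ⟨V, hV, hxV, hle⟩ := exists_isAffineOpen_mem_and_subset (U := σ ⁻¹ᵁ W₀.1 ⊓ T) ⟨hxW, hx⟩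
  obtain ⟨b, hb⟩ : φ ∈ Set.range (M2.idealIncl σ.ker (U := W₀.1)) := by
    rw [M2.range_idealIncl, he.ideal_eq]; exact Ideal.mem_span_singleton_self φ
  have hgb : Twist.IsGen (ClSub.idealMod σ.ker) W₀.1 b :=
    M2.isGenerator_idealMod σ.ker φ he.mem he.ideal_eq b hb
  have hWW : W₀.1 ⊓ f ⁻¹ᵁ V ≤ W₀.1 := inf_le_left
  refine ⟨V, ⟨W₀.1 ⊓ f ⁻¹ᵁ V, inf_le_right, fun y hy => ⟨(hle hy).1, ?_⟩, ores hWW φ, mres _ hWW g, hg.mres hWW,
    mres _ hWW b, hgb.mres hWW, ?_, ?_⟩, hxV, fun y hy => (hle hy).2, hV⟩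
  · show f (σ y) ∈ V
    rw [← Scheme.Hom.comp_apply, hσ]; exact hy
  · rw [M2.idealIncl_res σ.ker hWW b, hb]
  · rw [← mres_mres D.L (le_top : W₀.1 ≤ ⊤) hWW, hs, mres_smul]

namespace Chart

variable {V : B.Opens} (K : Chart (f := f) D V)

/-- Restriction of a chart to a smaller open. -/
def res {V' : B.Opens} (h : V' ≤ V) (hσ : σ ≫ f = 𝟙 B) : Chart (f := f) D V' where
  W := K.W ⊓ f ⁻¹ᵁ V'
  le := inf_le_right
  pre := fun y hy => ⟨K.pre (h hy), show f (σ y) ∈ V' by rw [← Scheme.Hom.comp_apply, hσ]; exact hy⟩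
  φ := ores inf_le_left K.φ
  g := mres _ inf_le_left K.g
  gen := K.gen.mres inf_le_left
  b := mres _ inf_le_left K.b
  gen_b := K.gen_b.mres inf_le_left
  b_eq := by rw [M2.idealIncl_res σ.ker inf_le_left K.b, K.b_eq]
  sec := by rw [← mres_mres D.L (le_top : K.W ≤ ⊤) inf_le_left, K.sec, mres_smul]

/-- The value on the section of the coefficient in a chart. -/
def val (a : Γ(C, K.W)) : Γ(B, V) := σ.appLE K.W V K.pre a

/-- The coefficient of a section. -/
def coef (v : Γ(D.L, f ⁻¹ᵁ V)) : Γ(C, K.W) :=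
  ((K.gen K.W le_rfl).2 (mres D.L K.le v)).choose

theorem coef_spec (v : Γ(D.L, f ⁻¹ᵁ V)) : K.coef v • K.g = mres D.L K.le v := by
  refine Eq.trans ?_ ((K.gen K.W le_rfl).2 (mres D.L K.le v)).choose_spec
  show K.coef v • K.g = K.coef v • mres D.L le_rfl K.g
  rw [mres_id]

theorem coef_eq {v : Γ(D.L, f ⁻¹ᵁ V)} {a : Γ(C, K.W)} (h : a • K.g = mres D.L K.le v) : K.coef v = a := by
  refine (K.gen K.W le_rfl).1 ?_
  simp only [mres_id]
  rw [K.coef_spec, h]

/-- The evaluation on the section. -/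
def ev (v : Γ(D.L, f ⁻¹ᵁ V)) : Γ(B, V) := K.val (K.coef v)

include hσ in
theorem val_pull (r : Γ(B, V)) : K.val (f.appLE V K.W K.le r) = r := by
  have : f.appLE V K.W K.le ≫ σ.appLE K.W V K.pre = 𝟙 _ := by
    rw [Scheme.Hom.appLE_comp_appLE, Scheme.Hom.appLE, Scheme.Hom.congr_app hσ, Category.assoc,
      ← Functor.map_comp, Scheme.Hom.id_app]
    exact (Category.id_comp _).trans (B.presheaf.map_id _)
  exact ConcreteCategory.congr_hom this r

include hσ in
theorem ev_smul (r : Γ(B, V)) (v : Γ(D.L, f ⁻¹ᵁ V)) : K.ev (f.app V r • v) = r * K.ev v := by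
  have h : K.coef (f.app V r • v) = f.appLE V K.W K.le r * K.coef v := by
    refine K.coef_eq ?_
    rw [mul_smul, K.coef_spec, mres_smul]
    rfl
  rw [ev, h, val, map_mul]
  exact congrArg (· * K.ev v) (K.val_pull hσ r)

theorem ev_add (v w : Γ(D.L, f ⁻¹ᵁ V)) : K.ev (v + w) = K.ev v + K.ev w := by
  have h : K.coef (v + w) = K.coef v + K.coef w := by
    refine K.coef_eq ?_
    rw [add_smul, K.coef_spec, K.coef_spec]
    exact (map_add (D.L.presheaf.map (homOfLE K.le).op).hom v w).symm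
  rw [ev, h, val, map_add]
  rfl

theorem val_phi : K.val K.φ = 0 := by
  have h1 := M2.subschemeι_app_idealIncl σ.ker K.b
  rw [K.b_eq] at h1
  have h2 : σ.app K.W K.φ = 0 := by
    have h := ConcreteCategory.congr_hom (Scheme.Hom.congr_app σ.toImage_imageι K.W) K.φ
    rw [Scheme.Hom.comp_app, ConcreteCategory.comp_apply, ConcreteCategory.comp_apply] at h
    erw [h1, map_zero] at h
    exact (ConcreteCategory.bijective_of_isIso _).1 (h.symm.trans (map_zero _).symm)
  show (σ.app K.W ≫ B.presheaf.map (homOfLE K.pre).op) K.φ = 0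
  rw [ConcreteCategory.comp_apply, h2, map_zero]

theorem ev_sec : K.ev (mres D.L le_top D.s) = 0 := by
  rw [ev, K.coef_eq (a := K.φ) (by rw [mres_mres, K.sec]), K.val_phi]

theorem inj_phi {U : C.Opens} (hU : U ≤ K.W) {c : Γ(C, U)} (h : c * ores hU K.φ = 0) : c = 0 := by
  refine (K.gen_b U hU).1 ?_
  show c • mres _ hU K.b = (0 : Γ(C, U)) • mres _ hU K.b
  rw [zero_smul]
  refine M2.idealIncl_injective σ.ker U ?_
  rw [M2.idealIncl_smul, M2.idealIncl_res σ.ker hU, K.b_eq]
  exact h.trans (map_zero ((ClSub.idealModι σ.ker).app U).hom).symm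

end Chart

/-- Away from the section the section of `O(σ)` generates. -/
theorem isGen_off : Twist.IsGen D.L (EffCartier.cmpl σ.ker) (mres D.L le_top D.s) := by
  refine Twist.isGen_of_stalk fun x hx => ?_
  obtain ⟨W, φ, g, hxW, hWT, he, hg, hs⟩ := D.loc x _ hx
  have hu : IsUnit φ := by
    refine RingedSpace.isUnit_of_isUnit_germ C.toRingedSpace W.1 φ fun y hy => ?_
    rw [← Scheme.mem_basicOpen]
    rw [EffCartier.basicOpen_eq he]
    exact ⟨hWT hy, hy⟩
  have hgs : Twist.IsGen D.L W.1 (φ • g) := fun V hV => by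
    obtain ⟨u, hu'⟩ := hu.map (C.presheaf.map (homOfLE hV).op).hom
    have hb := (hg V hV).comp (Equiv.bijective (Units.mulRight u))
    convert hb using 1
    funext r
    show r • mres D.L hV (φ • g) = (r * ↑u) • mres D.L hV g
    rw [mres_smul, ← mul_smul, hu']
  rw [← hs] at hgs
  have h := hgs.stalk hxW
  convert h using 2 with c
  exact congrArg (c • ·) ((D.L.presheaf.germ_res_apply (homOfLE le_top) x hx D.s).trans (D.L.presheaf.germ_res_apply (homOfLE le_top) x hxW D.s).symm)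

end Groth.Agent.P1Bun1
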