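import Groth.Agent.Lib.P1Bun1.Bundle
import Groth.Agent.Lib.QAGen11.Basic

/-!
# Disjoint sections of a family of lines
-/

set_option autoImplicit false
set_option linter.style.haveILetI false
set_option maxHeartbeats 1000000
set_option backward.isDefEq.respectTransparency false
set_option backward.isDefEq.respectTransparency.types false

universe u

open CategoryTheory CategoryTheory.Limits AlgebraicGeometry TopologicalSpace Opposite

noncomputable section

namespace Groth.Agent.P1Bun1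

open Groth.Agent.M1

variable {C B : Scheme.{u}} {f : C ⟶ B} [IsProper f] [SmoothOfRelativeDimension 1 f] {σ : B ⟶ C}
  (hσ : σ ≫ f = 𝟙 B) (D : DivSec σ.ker) {τ : B ⟶ C} (hτ : τ ≫ f = 𝟙 B)
  (hd : Disjoint (Set.range σ) (Set.range τ))

omit [SmoothOfRelativeDimension 1 f] in
include hσ hτ hd in
theorem le_preimage_off (U : B.Opens) : U ≤ τ ⁻¹ᵁ (f ⁻¹ᵁ U ⊓ EffCartier.cmpl σ.ker) := fun y hy =>
  ⟨show f (τ y) ∈ U by rw [← Scheme.Hom.comp_apply, hτ]; exact hy,
    (mem_cmpl_iff hσ (τ y)).2 fun h => Set.disjoint_left.1 hd h ⟨y, rfl⟩⟩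

/-- The coefficient of a section with respect to the section of the divisor off the divisor. -/
def offCoef {U : B.Opens} (v : Γ(D.L, f ⁻¹ᵁ U)) : Γ(C, f ⁻¹ᵁ U ⊓ EffCartier.cmpl σ.ker) :=
  (((isGen_off (D := D)) _ (inf_le_right : f ⁻¹ᵁ U ⊓ EffCartier.cmpl σ.ker ≤ _)).2 (mres D.L inf_le_left v)).choose

omit [IsProper f] [SmoothOfRelativeDimension 1 f] in
theorem offCoef_spec {U : B.Opens} (v : Γ(D.L, f ⁻¹ᵁ U)) :
    offCoef D v • mres D.L (le_top : f ⁻¹ᵁ U ⊓ EffCartier.cmpl σ.ker ≤ ⊤) D.s = mres D.L inf_le_left v := by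
  have h := (((isGen_off (D := D)) _ (inf_le_right : f ⁻¹ᵁ U ⊓ EffCartier.cmpl σ.ker ≤ _)).2
    (mres D.L inf_le_left v)).choose_spec
  exact (congrArg (fun z => offCoef D v • z) (M1.mres_mres D.L _ _ D.s).symm).trans h

omit [IsProper f] [SmoothOfRelativeDimension 1 f] in
theorem offCoef_eq {U : B.Opens} {v : Γ(D.L, f ⁻¹ᵁ U)} {a : Γ(C, f ⁻¹ᵁ U ⊓ EffCartier.cmpl σ.ker)}
    (h : a • mres D.L (le_top : f ⁻¹ᵁ U ⊓ EffCartier.cmpl σ.ker ≤ ⊤) D.s = mres D.L inf_le_left v) :
    offCoef D v = a := by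
  refine ((isGen_off (D := D)) _ inf_le_right).1 ?_
  simp only [mres_mres]
  rw [offCoef_spec, h]

/-- The evaluation of sections of `O(σ)` on a disjoint section. -/
def evSec {U : B.Opens} (v : Γ(D.L, f ⁻¹ᵁ U)) : Γ(B, U) :=
  τ.appLE _ U (le_preimage_off hσ hτ hd U) (offCoef D v)

omit [SmoothOfRelativeDimension 1 f] in
theorem evSec_sec (U : B.Opens) : evSec hσ D hτ hd (mres D.L (le_top : f ⁻¹ᵁ U ≤ ⊤) D.s) = 1 := by
  rw [evSec, offCoef_eq D (a := 1) (by rw [one_smul, mres_mres]), map_one]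

omit [SmoothOfRelativeDimension 1 f] in
theorem evSec_add {U : B.Opens} (v w : Γ(D.L, f ⁻¹ᵁ U)) :
    evSec hσ D hτ hd (v + w) = evSec hσ D hτ hd v + evSec hσ D hτ hd w := by
  rw [evSec, offCoef_eq D (a := offCoef D v + offCoef D w)
    (by rw [add_smul, offCoef_spec, offCoef_spec, map_add]), map_add]
  rfl

omit [SmoothOfRelativeDimension 1 f] in
theorem evSec_smul {U : B.Opens} (r : Γ(B, U)) (v : Γ(D.L, f ⁻¹ᵁ U)) :
    evSec hσ D hτ hd (f.app U r • v) = r * evSec hσ D hτ hd v := by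
  rw [evSec, offCoef_eq D (a := f.appLE U _ inf_le_left r * offCoef D v)
    (by rw [mul_smul, offCoef_spec, mres_smul]; rfl), map_mul]
  refine congrArg (· * _) ?_
  have : f.appLE U (f ⁻¹ᵁ U ⊓ EffCartier.cmpl σ.ker) inf_le_left ≫ τ.appLE _ U (le_preimage_off hσ hτ hd U) = 𝟙 _ := by
    rw [Scheme.Hom.appLE_comp_appLE, Scheme.Hom.appLE, Scheme.Hom.congr_app hτ, Category.assoc,
      ← Functor.map_comp, Scheme.Hom.id_app]
    exact (Category.id_comp _).trans (B.presheaf.map_id _)
  exact ConcreteCategory.congr_hom this r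

omit [SmoothOfRelativeDimension 1 f] in
theorem evSec_res {U U' : B.Opens} (h : U' ≤ U) (v : Γ(D.L, f ⁻¹ᵁ U)) :
    evSec hσ D hτ hd (mres D.L (f.preimage_mono h) v) = ores h (evSec hσ D hτ hd v) := by
  have hle : f ⁻¹ᵁ U' ⊓ EffCartier.cmpl σ.ker ≤ f ⁻¹ᵁ U ⊓ EffCartier.cmpl σ.ker :=
    inf_le_inf_right _ (f.preimage_mono h)
  rw [evSec, offCoef_eq D (a := ores hle (offCoef D v)) (by
    have e := congrArg (mres D.L hle) (offCoef_spec D v)
    rw [mres_smul, mres_mres, mres_mres] at e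
    rw [mres_mres]
    exact e)]
  show (C.presheaf.map (homOfLE hle).op ≫ τ.appLE _ U' _) (offCoef D v) =
    (τ.appLE _ U (le_preimage_off hσ hτ hd U) ≫ B.presheaf.map (homOfLE h).op) (offCoef D v)
  rw [Scheme.Hom.map_appLE, Scheme.Hom.appLE_map]

omit [SmoothOfRelativeDimension 1 f] in
include hσ hτ hd in
/-- The evaluation as a map of modules. -/
theorem exists_evHom : ∃ p : (Scheme.Modules.pushforward f).obj D.L ⟶ Coh.structureModule B,
    ∀ (U : B.Opens) (v : Γ(D.L, f ⁻¹ᵁ U)), p.app U v = evSec hσ D hτ hd v := by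
  let F : ((Scheme.Modules.pushforward f).obj D.L).val.presheaf ⟶ (Coh.structureModule B).val.presheaf :=
    { app := fun U => AddCommGrpCat.ofHom (AddMonoidHom.mk'
        (fun v => (show Γ(Coh.structureModule B, U.unop) from evSec hσ D hτ hd (U := U.unop) (show Γ(D.L, f ⁻¹ᵁ U.unop) from v)))
        fun v w => evSec_add hσ D hτ hd _ _)
      naturality := fun U U' i => by
        ext v
        exact evSec_res hσ D hτ hd (leOfHom i.unop) (show Γ(D.L, f ⁻¹ᵁ U.unop) from v) }
  exact ⟨⟨PresheafOfModules.homMk F fun U r v => evSec_smul hσ D hτ hd (show Γ(B, U.unop) from r) _⟩, fun U v => rfl⟩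

variable (hf : IsP1Fam f) {τ' : B ⟶ C} (hτ' : τ' ≫ f = 𝟙 B) (hd' : Disjoint (Set.range σ) (Set.range τ'))
  (hdd : Disjoint (Set.range τ) (Set.range τ'))

include hf hdd in
/-- Disjoint sections have values differing by units. -/
theorem isUnit_sub {V : B.Opens} (hV : IsAffineOpen V) {t : Γ(D.L, f ⁻¹ᵁ V)}
    (hbas : P1Split.IsBas ((Scheme.Modules.pushforward f).obj D.L) V
        ![(show Γ((Scheme.Modules.pushforward f).obj D.L, V) from mres D.L le_top D.s),
          (show Γ((Scheme.Modules.pushforward f).obj D.L, V) from t)]) :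
    IsUnit (evSec hσ D hτ' hd' t - evSec hσ D hτ hd t) := by
  let E := (Scheme.Modules.pushforward f).obj D.L
  obtain ⟨bas, hb⟩ : ∃ bas : Module.Basis (Fin 2) Γ(B, V) Γ(E, V), ∀ i, bas i =
      ![(show Γ(E, V) from mres D.L le_top D.s), (show Γ(E, V) from t)] i := by
    have h := hbas V le_rfl
    refine ⟨Module.Basis.ofEquivFun (LinearEquiv.ofBijective (Fintype.linearCombination Γ(B, V)
      ![(show Γ(E, V) from mres D.L le_top D.s), (show Γ(E, V) from t)]) ?_).symm, fun i => ?_⟩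
    · convert h using 1
      funext c
      rw [Fintype.linearCombination_apply]
      simp only [mres_id]
    · classical
      rw [Module.Basis.coe_ofEquivFun]
      show Fintype.linearCombination Γ(B, V) _ (Pi.single i (1 : Γ(B, V))) = _
      rw [Fintype.linearCombination_apply_single, one_smul]
  have hEq : Coh.IsQCoh E := M2.isQCoh_of_isFinLocFree fun x => by
    obtain ⟨U, hxU, i⟩ := isFinLocFreeOfRank_push hσ hf D x; exact ⟨U, 2, hxU, i⟩
  obtain ⟨hW, hbij⟩ := PBundle2.chart (isProjBundle hσ hf D) hEq hV bas (0 : Fin 2)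
  have hsg : ∀ i, PBundle2.sg (quot D (f := f)) (bas i) =
      (show Γ(D.L, f ⁻¹ᵁ V) from bas i) := fun i => quot_pullSec D (bas i)
  let W := VA11.gl (PBundle2.sg (quot D (f := f)) (bas 0))
  have hWle : f ⁻¹ᵁ V ⊓ EffCartier.cmpl σ.ker ≤ W := by
    refine VA11.le_gl inf_le_left ?_
    rw [hsg, hb]
    show Twist.IsGen D.L _ (mres D.L inf_le_left (mres D.L le_top D.s))
    rw [mres_mres]
    have := (isGen_off (D := D)).mres (inf_le_right : f ⁻¹ᵁ V ⊓ EffCartier.cmpl σ.ker ≤ _)
    rwa [mres_mres] at this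
  have hcf : ores hWle (VA11.cf (PBundle2.sg (quot D (f := f)) (bas 0)) (PBundle2.sg (quot D (f := f)) (bas 1))) =
      offCoef D t := by
    refine VA11.ores_cf_eq hWle ?_
    refine (congrArg (fun z => offCoef D t • mres D.L inf_le_left z) ((hsg 0).trans (hb 0))).trans
      (Eq.trans ?_ (congrArg (mres D.L inf_le_left) ((hsg 1).trans (hb 1))).symm)
    show offCoef D t • mres D.L _ (mres D.L le_top D.s) = mres D.L _ t
    rw [mres_mres]
    exact offCoef_spec D t
  refine RingedSpace.isUnit_of_isUnit_germ B.toRingedSpace V _ fun x hx => ?_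
  rw [← Scheme.mem_basicOpen]
  by_contra hnot
  have hev : B.evaluation V x hx (evSec hσ D hτ' hd' t) = B.evaluation V x hx (evSec hσ D hτ hd t) := by
    rw [← sub_eq_zero, ← map_sub]
    exact Classical.byContradiction fun hne => hnot ((B.evaluation_ne_zero_iff_mem_basicOpen _ hx _).1 hne)
  -- a function on the chart has the same values at the two points
  let ρ : ∀ (ν : B ⟶ C), ν ≫ f = 𝟙 B → Disjoint (Set.range σ) (Set.range ν) → (Γ(C, W) →+* B.residueField x) :=
    fun ν hν hνd => (B.evaluation V x hx).hom.comp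
      (ν.appLE W V ((le_preimage_off hσ hν hνd V).trans (ν.preimage_mono hWle))).hom
  have hρ : ρ τ hτ hd = ρ τ' hτ' hd' := by
    refine RingHom.ext fun z => ?_
    obtain ⟨P, rfl⟩ := hbij.2 z
    show ((ρ τ hτ hd).comp (PBundle2.chartHom (q := quot D (f := f)) bas 0)) P =
      ((ρ τ' hτ' hd').comp (PBundle2.chartHom (q := quot D (f := f)) bas 0)) P
    refine RingHom.congr_fun (MvPolynomial.ringHom_ext (fun c => ?_) fun i => ?_) P
    · have key : ∀ (ν : B ⟶ C) (hν : ν ≫ f = 𝟙 B) (hνd : Disjoint (Set.range σ) (Set.range ν)),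
          ρ ν hν hνd (PBundle2.chartHom (q := quot D (f := f)) bas 0 (MvPolynomial.C c)) = B.evaluation V x hx c := by
        intro ν hν hνd
        rw [PBundle2.chartHom, MvPolynomial.eval₂Hom_C]
        refine congrArg (B.evaluation V x hx) ?_
        have : f.appLE V W (PBundle2.gl_le_preimage bas 0) ≫
            ν.appLE W V ((le_preimage_off hσ hν hνd V).trans (ν.preimage_mono hWle)) = 𝟙 _ := by
          rw [Scheme.Hom.appLE_comp_appLE, Scheme.Hom.appLE, Scheme.Hom.congr_app hν, Category.assoc,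
            ← Functor.map_comp, Scheme.Hom.id_app]
          exact (Category.id_comp _).trans (B.presheaf.map_id _)
        exact ConcreteCategory.congr_hom this c
      exact (key τ hτ hd).trans (key τ' hτ' hd').symm
    · have key : ∀ (ν : B ⟶ C) (hν : ν ≫ f = 𝟙 B) (hνd : Disjoint (Set.range σ) (Set.range ν)),
          ρ ν hν hνd (PBundle2.chartHom (q := quot D (f := f)) bas 0 (MvPolynomial.X i)) =
            B.evaluation V x hx (evSec hσ D hν hνd t) := by
        intro ν hν hνd
        rw [PBundle2.chartHom, MvPolynomial.eval₂Hom_X']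
        have hi : (0 : Fin 2).succAbove i = 1 := by fin_cases i; rfl
        rw [hi, evSec, ← hcf]
        refine congrArg (B.evaluation V x hx) ?_
        show _ = (C.presheaf.map (homOfLE hWle).op ≫ ν.appLE _ V (le_preimage_off hσ hν hνd V)) _
        rw [Scheme.Hom.map_appLE]
      exact (key τ hτ hd).trans (hev.symm.trans (key τ' hτ' hd').symm)
  have hmem : ∀ (z : Γ(C, W)), τ x ∈ C.basicOpen z ↔ τ' x ∈ C.basicOpen z := by
    have key : ∀ (ν : B ⟶ C) (hν : ν ≫ f = 𝟙 B) (hνd : Disjoint (Set.range σ) (Set.range ν)) (z : Γ(C, W)),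
        ν x ∈ C.basicOpen z ↔ ρ ν hν hνd z ≠ 0 := by
      intro ν hν hνd z
      show _ ↔ B.evaluation V x hx (ν.appLE W V _ z) ≠ 0
      rw [B.evaluation_ne_zero_iff_mem_basicOpen _ hx, Scheme.Hom.appLE, ConcreteCategory.comp_apply,
        Scheme.basicOpen_res, ← Scheme.preimage_basicOpen]
      exact ⟨fun h => ⟨hx, h⟩, fun h => h.2⟩
    intro z
    rw [key τ hτ hd, key τ' hτ' hd', hρ]
  have hy : ∀ (ν : B ⟶ C) (hν : ν ≫ f = 𝟙 B), Disjoint (Set.range σ) (Set.range ν) → ν x ∈ W := fun ν hν hνd =>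
    hWle (le_preimage_off hσ hν hνd V hx)
  have hsp : ∀ y y' : C, y' ∈ W → (∀ z : Γ(C, W), y' ∈ C.basicOpen z → y ∈ C.basicOpen z) → y ⤳ y' := by
    intro y y' hy' h
    refine specializes_iff_forall_open.2 fun U hU hyU => ?_
    obtain ⟨z, hz, hzy⟩ := hW.exists_basicOpen_le (V := ⟨U, hU⟩) ⟨y', hyU⟩ hy'
    exact hz (h z hzy)
  have heq : τ x = τ' x := ((hsp _ _ (hy τ' hτ' hd') fun z => (hmem z).2).antisymm
    (hsp _ _ (hy τ hτ hd) fun z => (hmem z).1)).eq
  exact Set.disjoint_left.1 hdd ⟨x, rfl⟩ ⟨x, heq.symm⟩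

/-- Transport along an isomorphism of modules. -/
theorem isProjBundle_congr {X P : Scheme.{u}} {p : P ⟶ X} {E E' : X.Modules} {O1 : P.Modules}
    {q : (Scheme.Modules.pullback p).obj E ⟶ O1} (hP : KRR.IsProjBundle p E O1 q) (e : E ≅ E') :
    KRR.IsProjBundle p E' O1 ((Scheme.Modules.pullback p).map e.inv ≫ q) := by
  haveI := hP.epi
  refine ⟨hP.invertible, inferInstance, fun T g L' hL' s' hs' => ?_⟩
  haveI := hs'
  have key : ∀ (r : T ⟶ P) (hr : r ≫ p = g) (τ : (Scheme.Modules.pullback r).obj O1 ≅ L'),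
      ((Scheme.Modules.pullbackCongr hr).inv.app E' ≫ (Scheme.Modules.pullbackComp r p).inv.app E' ≫
        (Scheme.Modules.pullback r).map ((Scheme.Modules.pullback p).map e.inv ≫ q) ≫ τ.hom) =
      (Scheme.Modules.pullback g).map e.inv ≫
        ((Scheme.Modules.pullbackCongr hr).inv.app E ≫ (Scheme.Modules.pullbackComp r p).inv.app E ≫
          (Scheme.Modules.pullback r).map q ≫ τ.hom) := by
    intro r hr τ
    rw [Functor.map_comp, Category.assoc]
    erw [← NatTrans.naturality_assoc]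
    erw [← NatTrans.naturality_assoc]
  obtain ⟨r₀, ⟨hr₀, τ₀, h₀⟩, huniq⟩ := hP.univ T g L' hL' ((Scheme.Modules.pullback g).map e.hom ≫ s') inferInstance
  refine ⟨r₀, ⟨hr₀, τ₀, ?_⟩, fun r ⟨hr, τ, h⟩ => huniq r ⟨hr, τ, ?_⟩⟩
  · rw [key, h₀, ← Functor.map_comp_assoc, e.inv_hom_id, CategoryTheory.Functor.map_id, Category.id_comp]
  · rw [key] at h
    rw [← h, ← Functor.map_comp_assoc, e.hom_inv_id, CategoryTheory.Functor.map_id, Category.id_comp]

include hσ hτ hd hf in
/-- Two disjoint sections split the bundle. -/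
theorem exists_split : ∃ (L₁ L₂ : B.Modules), FlatMod.IsFinLocFreeOfRank 1 L₁ ∧ FlatMod.IsFinLocFreeOfRank 1 L₂ ∧
    Nonempty ((Scheme.Modules.pushforward f).obj D.L ≅ L₁ ⊞ L₂) := by
  let E := (Scheme.Modules.pushforward f).obj D.L
  obtain ⟨p, hp⟩ := exists_evHom hσ D hτ hd
  let ι : Coh.structureModule B ⟶ E := M1.secHom (show Γ(E, (⊤ : B.Opens)) from mres D.L le_top D.s)
  have hιp : ι ≫ p = 𝟙 _ := by
    refine Scheme.Modules.hom_ext _ _ fun U => ?_
    ext r
    show p.app U (ι.app U (show Γ(Coh.structureModule B, U) from r)) = _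
    have h1 : ι.app U (show Γ(Coh.structureModule B, U) from r) =
        (show Γ(E, U) from f.app U r • mres D.L (le_top : f ⁻¹ᵁ U ≤ ⊤) D.s) := by
      refine (Twist.secHom_app _ U r).trans ?_
      show f.app U r • mres D.L (f.preimage_mono (le_top : U ≤ ⊤)) (mres D.L (le_top : f ⁻¹ᵁ ⊤ ≤ ⊤) D.s) = _
      rw [mres_mres]
    rw [h1, hp, evSec_smul, evSec_sec, mul_one]
    rfl
  haveI : Epi p := SplitEpi.epi ⟨ι, hιp⟩
  let S : ShortComplex B.Modules := ShortComplex.mk (kernel.ι p) p (kernel.condition p)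
  have hS : S.ShortExact :=
    { exact := ShortComplex.exact_of_f_is_kernel _ (kernelIsKernel p)
      mono_f := inferInstanceAs (Mono (kernel.ι p))
      epi_g := inferInstanceAs (Epi p) }
  have hO : FlatMod.IsFinLocFreeOfRank 1 (Coh.structureModule B) :=
    (M2.isInvertible_iff_isFinLocFreeOfRank_one _).1 (QAGen11.isInvertible_unit B)
  have hinj : ∀ (U : B.Opens), Function.Injective ((kernel.ι p).app U) := M1.app_injective (kernel.ι p)
  have hK : FlatMod.IsFinLocFreeOfRank 1 (kernel p) := fun x => by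
    obtain ⟨V, K, t, hxV, -, -, -, hbas⟩ := exists_basis hσ (D := D) hf x ⊤ trivial
    let sV : Γ(E, V) := mres D.L (le_top : f ⁻¹ᵁ V ≤ ⊤) D.s
    let tV : Γ(E, V) := t
    let a := evSec hσ D hτ hd t
    have hps : p.app V sV = (show Γ(Coh.structureModule B, V) from (1 : Γ(B, V))) := (hp V _).trans (evSec_sec hσ D hτ hd V)
    have hpt : p.app V tV = (show Γ(Coh.structureModule B, V) from a) := hp V _
    obtain ⟨n, hn⟩ : ∃ n, (kernel.ι p).app V n = tV - a • sV := by
      obtain ⟨n, hn⟩ := M1.sections_exact (S := S) hS.exact V (tV - a • sV) (by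
        show p.app V (tV - a • sV) = 0
        rw [map_sub, Scheme.Modules.Hom.app_smul, hps, hpt]
        show (show Γ(B, V) from a) - a * 1 = 0
        rw [mul_one, sub_self])
      exact ⟨n, hn⟩
    refine ⟨V, hxV, ResDesc11.nonempty_restrict_iso_free (e := ![n]) fun V' h => ?_⟩
    have key : ∀ c : Γ(B, V'), (kernel.ι p).app V' (c • mres (kernel p) h n) =
        ∑ i, ![-(c * ores h a), c] i • mres E h (![sV, tV] i) := by
      intro c
      rw [Scheme.Modules.Hom.app_smul, M1.app_mres, hn, Fin.sum_univ_two, map_sub, mres_smul, smul_sub,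
        ← mul_smul]
      simp only [Matrix.cons_val_zero, Matrix.cons_val_one, neg_smul]
      abel
    constructor
    · intro d d' hdd
      simp only [Fin.sum_univ_one, Matrix.cons_val_zero] at hdd
      have h2 := (hbas V' h).1 (((key (d 0)).symm.trans (congrArg _ hdd)).trans (key (d' 0)))
      funext i
      fin_cases i
      exact congrFun h2 1
    · intro z
      obtain ⟨m, hm⟩ := (hbas V' h).2 ((kernel.ι p).app V' z)
      refine ⟨![m 1], ?_⟩
      simp only [Fin.sum_univ_one, Matrix.cons_val_zero]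
      refine hinj V' ((key (m 1)).trans (Eq.trans ?_ hm))
      have h0 : m 0 + m 1 * ores h a = 0 := by
        have hz : p.app V' ((kernel.ι p).app V' z) = 0 :=
          congrArg (fun χ => χ.app V' z) (kernel.condition p)
        have hA : ∀ w : Γ(E, V), p.app V' (mres E h w) = mres (Coh.structureModule B) h (p.app V w) :=
          fun w => M1.app_mres p h w
        have hz' : p.app V' (m 0 • mres E h sV + m 1 • mres E h tV) = 0 := by
          rw [← hz, ← hm]
          refine congrArg (p.app V') ?_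
          exact (Fin.sum_univ_two (fun i => m i • mres E h (![sV, tV] i))).symm
        rw [map_add, Scheme.Modules.Hom.app_smul, Scheme.Modules.Hom.app_smul, hA, hA, hps, hpt] at hz'
        change (m 0 : Γ(B, V')) * ores h (1 : Γ(B, V)) + m 1 * ores h a = 0 at hz'
        rwa [map_one, mul_one] at hz'
      refine Finset.sum_congr rfl fun i _ => congrArg (· • _) ?_
      fin_cases i
      · show -(m 1 * ores h a) = m 0
        linear_combination -h0
      · rfl
  refine ⟨_, _, hO, hK, ⟨?_⟩⟩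
  refine
    { hom := biprod.lift p (kernel.lift p (𝟙 E - p ≫ ι) ?_)
      inv := biprod.desc ι (kernel.ι p)
      hom_inv_id := ?_
      inv_hom_id := ?_ }
  · rw [Preadditive.sub_comp, Category.id_comp, Category.assoc, hιp, Category.comp_id, sub_self]
  · rw [biprod.lift_desc, kernel.lift_ι, add_sub_cancel]
  · refine biprod.hom_ext' _ _ (biprod.hom_ext _ _ ?_ ?_) (biprod.hom_ext _ _ ?_ ?_)
    · simp [hιp]
    · refine (cancel_mono (kernel.ι p)).1 ?_
      simp [Preadditive.comp_sub, reassoc_of% hιp]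
      exact sub_eq_zero.2 (Category.comp_id ι)
    · simp
    · refine (cancel_mono (kernel.ι p)).1 ?_
      simp [Preadditive.comp_sub]
      exact Category.comp_id _

include hσ hτ hd hτ' hd' hdd hf in
/-- Three disjoint sections trivialise the bundle. -/
theorem exists_free : Nonempty ((Scheme.Modules.pushforward f).obj D.L ≅ FlatMod.freeMod B 2) := by
  let E := (Scheme.Modules.pushforward f).obj D.L
  obtain ⟨p, hp⟩ := exists_evHom hσ D hτ hd
  obtain ⟨p', hp'⟩ := exists_evHom hσ D hτ' hd'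
  let F : Fin 2 → B.Modules := fun _ => Coh.structureModule B
  let Φ : E ⟶ FlatMod.freeMod B 2 := p ≫ Sigma.ι F 0 + p' ≫ Sigma.ι F 1
  suffices IsIso Φ from ⟨asIso Φ⟩
  choose V K t hxV _ hV _ hbas using fun x : B => exists_basis hσ (D := D) hf x ⊤ trivial
  let e : ∀ (V : B.Opens), Fin 2 → Γ(FlatMod.freeMod B 2, V) := fun V i => (Sigma.ι F i).app V (M1.one V)
  let g : ∀ x, Fin 2 → Γ(E, V x) := fun x => ![(show Γ(E, V x) from mres D.L le_top D.s), (show Γ(E, V x) from t x)]
  refine P1Split.isIso_of_bases Φ V (eq_top_iff.2 fun x _ => Opens.mem_iSup.2 ⟨x, hxV x⟩) g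
    (fun x j => Φ.app (V x) (g x j)) hbas (fun x => ?_) fun x j => rfl
  have hu := isUnit_sub hσ D hτ hd hf hτ' hd' hdd (hV x) (hbas x)
  let a := evSec hσ D hτ hd (t x)
  let c := evSec hσ D hτ' hd' (t x)
  have he : P1Split.IsBas (FlatMod.freeMod B 2) (V x) (e (V x)) :=
    P1Split.isBas_coprod F (fun _ => M1.one (V x)) fun _ => P1Split.isGen_one (V x)
  have hΦ : ∀ v : Γ(E, V x), Φ.app (V x) v =
      evSec hσ D hτ hd (show Γ(D.L, f ⁻¹ᵁ V x) from v) • e (V x) 0 +
        evSec hσ D hτ' hd' (show Γ(D.L, f ⁻¹ᵁ V x) from v) • e (V x) 1 := by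
    intro v
    show (Sigma.ι F 0).app (V x) (p.app (V x) v) + (Sigma.ι F 1).app (V x) (p'.app (V x) v) = _
    rw [hp, hp', ← Scheme.Modules.Hom.app_smul, ← Scheme.Modules.Hom.app_smul]
    refine congrArg₂ (· + ·) (congrArg _ ?_) (congrArg _ ?_) <;> exact (mul_one _).symm
  have h0 : Φ.app (V x) (g x 0) = e (V x) 0 + e (V x) 1 := by
    rw [hΦ]
    show evSec hσ D hτ hd (mres D.L le_top D.s) • _ + evSec hσ D hτ' hd' (mres D.L le_top D.s) • _ = _
    rw [evSec_sec, evSec_sec, one_smul, one_smul]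
  have h1 : Φ.app (V x) (g x 1) = a • e (V x) 0 + c • e (V x) 1 := hΦ _
  intro V' h
  obtain ⟨w, hw⟩ := (hu.map (ores h).hom).exists_right_inv
  have hsub : ores h (c - a) = ores h c - ores h a := map_sub _ _ _
  change ores h (c - a) * w = 1 at hw
  rw [hsub] at hw
  have key : ∀ d : Fin 2 → Γ(B, V'), ∑ i, d i • mres (FlatMod.freeMod B 2) h (Φ.app (V x) (g x i)) =
      ∑ i, ![d 0 + d 1 * ores h a, d 0 + d 1 * ores h c] i • mres (FlatMod.freeMod B 2) h (e (V x) i) := by
    intro d
    rw [Fin.sum_univ_two, Fin.sum_univ_two, h0, h1, map_add, map_add, mres_smul, mres_smul]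
    simp only [smul_add, ← mul_smul, Matrix.cons_val_zero, Matrix.cons_val_one, add_smul]
    abel
  constructor
  · intro d d' hd0
    have h2 := (he V' h).1 ((key d).symm.trans (hd0.trans (key d')))
    have e0 := congrFun h2 0
    have e1 := congrFun h2 1
    simp only [Matrix.cons_val_zero, Matrix.cons_val_one] at e0 e1
    have hd1 : d 1 = d' 1 := by linear_combination w * (e1 - e0) - (d 1 - d' 1) * hw
    funext i
    fin_cases i
    · show d 0 = d' 0
      linear_combination e0 - ores h a * hd1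
    · exact hd1
  · intro z
    obtain ⟨m, rfl⟩ := (he V' h).2 z
    refine ⟨![m 0 - (m 1 - m 0) * w * ores h a, (m 1 - m 0) * w], (key _).trans ?_⟩
    refine Finset.sum_congr rfl fun i _ => congrArg (· • _) ?_
    fin_cases i <;> simp
    linear_combination (m 1 - m 0) * hw

end Groth.Agent.P1Bun1
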